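import Cfsg.Agent.Fus.PStable.NegOne
import Cfsg.Agent.QdSection.Sections
import Cfsg.Agent.GlaubermanZJ.QuadStable
import Cfsg.Agent.GlaubermanZJ.NormalizerStable
import Mathlib.GroupTheory.Abelianization.Defs

/-!
A group of automorphisms of a `p`-group, `p` odd, which is stable on all subgroups (quadratic `p`-elements
generate `p`-groups with their conjugates) is stable modulo a centralized central subgroup.
-/

set_option autoImplicit false

open Cfsg
open scoped commutatorElement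

namespace CfsgLib.Fus.PStab

universe u

variable {p : ℕ}

/-- `K` acts on `Q'` as a `p`-group. -/
def PActsOn {H Q : Type*} [Group H] [Group Q] (p : ℕ) (φ : H →* MulAut Q) (K : Subgroup H)
    (Q' : Subgroup Q) : Prop :=
  ∀ h ∈ K, ∃ k : ℕ, ∀ q ∈ Q', φ (h ^ p ^ k) q = q

/-- Quadratic `p`-elements act with their conjugates as `p`-groups, on all subgroups. -/
def StableAction {H Q : Type*} [Group H] [Group Q] (p : ℕ) (φ : H →* MulAut Q) : Prop :=
  ∀ (Q' : Subgroup Q) (a g : H), (∃ k : ℕ, a ^ p ^ k = 1) → (∀ q ∈ Q', φ a q ∈ Q') →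
    (∀ q ∈ Q', φ g q ∈ Q') → (∀ q ∈ Q', φ a (q⁻¹ * φ a q) = q⁻¹ * φ a q) →
      PActsOn p φ (Subgroup.closure {a, g * a * g⁻¹}) Q'

theorem conj_pow_eq_one {H : Type*} [Group H] {a : H} {n : ℕ} (h : a ^ n = 1) (g : H) :
    (g * a * g⁻¹) ^ n = 1 := by
  rw [conj_pow, h, mul_one, mul_inv_cancel]

/-- An automorphism with `p'`-order stabilizing a series with fixed subgroup fixes everything. -/
theorem apply_eq_self_of_stab {Q : Type*} [Group Q] {n : ℕ} (e : MulAut Q) (he : e ^ n = 1) {Q₀ : Subgroup Q}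
    (hQ₀ : ∀ z ∈ Q₀, e z = z) (hn : ∀ z ∈ Q₀, (orderOf z).Coprime n) {q : Q} (hq : q⁻¹ * e q ∈ Q₀) :
    e q = q := by
  set z := q⁻¹ * e q with hz
  have hpow : ∀ i : ℕ, (e ^ i) q = q * z ^ i := by
    intro i
    induction i with
    | zero => simp
    | succ i ih =>
      rw [pow_succ', MulAut.mul_apply, ih, map_mul, map_pow, hQ₀ z hq,
        show e q = q * z by rw [hz, mul_inv_cancel_left], mul_assoc, ← pow_succ']
  have h1 := hpow n
  rw [he, MulAut.one_apply, left_eq_mul] at h1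
  have h2 : orderOf z = 1 := (hn z hq).eq_one_of_dvd (orderOf_dvd_of_pow_eq_one h1)
  rw [orderOf_eq_one_iff] at h2
  calc e q = q * z := by rw [hz, mul_inv_cancel_left]
    _ = q := by rw [h2, mul_one]

/-- A nilpotent group generated by an element and one of its conjugates is commutative. -/
theorem commute_of_closure_conj {P : Type*} [Group P] [Finite P] [Group.IsNilpotent P] {a g : P}
    (h : Subgroup.closure ({a, g * a * g⁻¹} : Set P) = ⊤) : g * a * g⁻¹ = a := by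
  by_cases hz : Subgroup.zpowers a = ⊤
  · obtain ⟨i, rfl⟩ := Subgroup.mem_zpowers_iff.1 (hz ▸ Subgroup.mem_top g : g ∈ Subgroup.zpowers a)
    group
  · obtain ⟨M, hM, haM⟩ := (eq_top_or_exists_le_coatom (Subgroup.zpowers a)).resolve_left hz
    haveI : M.Normal := Subgroup.NormalizerCondition.normal_of_coatom M Group.normalizerCondition_of_isNilpotent hM
    refine absurd (top_le_iff.1 (h ▸ (Subgroup.closure_le M).2 ?_)) hM.1
    rintro z (rfl | rfl)
    · exact haM (Subgroup.mem_zpowers _)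
    · exact (inferInstance : M.Normal).conj_mem _ (haM (Subgroup.mem_zpowers _)) g

section
variable {H Q : Type*} [Group H] [Group Q]

/-- Restriction of an action to an invariant subgroup. -/
def restrictAct (φ : H →* MulAut Q) (Q' : Subgroup Q) (h : ∀ g, ∀ q ∈ Q', φ g q ∈ Q') : H →* MulAut Q' where
  toFun g :=
    { toFun := fun q => ⟨φ g q, h g q q.2⟩
      invFun := fun q => ⟨φ g⁻¹ q, h g⁻¹ q q.2⟩
      left_inv := fun q => Subtype.ext (by
        show φ g⁻¹ (φ g q) = q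
        rw [← MulAut.mul_apply, ← map_mul, inv_mul_cancel, map_one, MulAut.one_apply])
      right_inv := fun q => Subtype.ext (by
        show φ g (φ g⁻¹ q) = q
        rw [← MulAut.mul_apply, ← map_mul, mul_inv_cancel, map_one, MulAut.one_apply])
      map_mul' := fun x y => Subtype.ext (map_mul (φ g) _ _) }
  map_one' := MulEquiv.ext fun q => Subtype.ext (by
    show φ 1 q = q
    rw [map_one, MulAut.one_apply])
  map_mul' g k := MulEquiv.ext fun q => Subtype.ext (by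
    show φ (g * k) q = φ g (φ k q)
    rw [map_mul, MulAut.mul_apply])

@[simp] theorem restrictAct_coe (φ : H →* MulAut Q) (Q' : Subgroup Q) (h : ∀ g, ∀ q ∈ Q', φ g q ∈ Q') (g : H)
    (q : Q') : ((restrictAct φ Q' h g q : Q') : Q) = φ g q := rfl

/-- The action induced on an invariant quotient. -/
def quotAct (φ : H →* MulAut Q) (N : Subgroup Q) [N.Normal] (h : ∀ g, ∀ q ∈ N, φ g q ∈ N) :
    H →* MulAut (Q ⧸ N) where
  toFun g :=
    MonoidHom.toMulEquiv (QuotientGroup.map N N (φ g).toMonoidHom (fun q hq => h g q hq))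
      (QuotientGroup.map N N (φ g⁻¹).toMonoidHom (fun q hq => h g⁻¹ q hq))
      (QuotientGroup.monoidHom_ext _ (MonoidHom.ext fun q => by
        show ((φ g⁻¹ (φ g q) : Q) : Q ⧸ N) = q
        rw [← MulAut.mul_apply, ← map_mul, inv_mul_cancel, map_one, MulAut.one_apply]))
      (QuotientGroup.monoidHom_ext _ (MonoidHom.ext fun q => by
        show ((φ g (φ g⁻¹ q) : Q) : Q ⧸ N) = q
        rw [← MulAut.mul_apply, ← map_mul, mul_inv_cancel, map_one, MulAut.one_apply]))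
  map_one' := MulEquiv.ext fun v => by
    induction v using QuotientGroup.induction_on with
    | _ q =>
      show ((φ 1 q : Q) : Q ⧸ N) = q
      rw [map_one, MulAut.one_apply]
  map_mul' g k := MulEquiv.ext fun v => by
    induction v using QuotientGroup.induction_on with
    | _ q =>
      show ((φ (g * k) q : Q) : Q ⧸ N) = ((φ g (φ k q) : Q) : Q ⧸ N)
      rw [map_mul, MulAut.mul_apply]

@[simp] theorem quotAct_mk (φ : H →* MulAut Q) (N : Subgroup Q) [N.Normal] (h : ∀ g, ∀ q ∈ N, φ g q ∈ N)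
    (g : H) (q : Q) : quotAct φ N h g (q : Q ⧸ N) = ((φ g q : Q) : Q ⧸ N) := rfl

theorem map_eq_of_apply_mem [Finite Q] {f : MulAut Q} {K : Subgroup Q} (h : ∀ q ∈ K, f q ∈ K) :
    ∀ q ∈ K, f.symm q ∈ K := by
  intro q hq
  have : K.map f.toMonoidHom = K := Subgroup.eq_of_le_of_card_ge (by rintro _ ⟨x, hx, rfl⟩; exact h x hx)
    (Subgroup.card_map_of_injective f.injective).ge
  obtain ⟨x, hx, hxq⟩ := this.symm ▸ hq
  rw [← show f x = q from hxq, MulEquiv.symm_apply_apply]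
  exact hx

/-- Invariance under the generators suffices. -/
theorem invariant_of_gen [Finite H] {φ : H →* MulAut Q} {a b : H}
    (hgen : Subgroup.closure ({a, b} : Set H) = ⊤) {K : Subgroup Q} (ha : ∀ q ∈ K, φ a q ∈ K)
    (hb : ∀ q ∈ K, φ b q ∈ K) : ∀ g, ∀ q ∈ K, φ g q ∈ K :=
  CfsgLib.GlaubermanZJ.mem_of_closure_pair hgen (P := fun g => ∀ q ∈ K, φ g q ∈ K)
    (fun q hq => by rwa [map_one]) (fun x y hx hy q hq => by rw [map_mul]; exact hx _ (hy q hq)) ha hb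

end

set_option maxHeartbeats 4000000 in
/-- The main induction. -/
theorem pActs_of_quadratic_mod [Fact p.Prime] (hp : p ≠ 2) :
    ∀ (n : ℕ) (H Q : Type u) [Group H] [Finite H] [Group Q] [Finite Q], Nat.card H + Nat.card Q = n →
      IsPGroup p Q → ∀ φ : H →* MulAut Q, StableAction p φ → ∀ Z : Subgroup Q, Z ≤ Subgroup.center Q →
      (∀ (h : H), ∀ z ∈ Z, φ h z = z) → ∀ a b : H, (∃ k : ℕ, a ^ p ^ k = 1) → (∃ k : ℕ, b ^ p ^ k = 1) →
      Subgroup.closure ({a, b} : Set H) = ⊤ →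
      (∀ q, (q⁻¹ * φ a q)⁻¹ * φ a (q⁻¹ * φ a q) ∈ Z) → (∀ q, (q⁻¹ * φ b q)⁻¹ * φ b (q⁻¹ * φ b q) ∈ Z) →
      ∀ h : H, ∃ k : ℕ, φ (h ^ p ^ k) = 1 := by
  intro n
  induction n using Nat.strong_induction_on with
  | _ n IH =>
  intro H Q _ _ _ _ hn hQ φ hst Z hZc hZf a b hap hbp hgen ha hb
  classical
  have hodd : Odd p := (Fact.out : p.Prime).odd_of_ne_two hp
  -- the action may be assumed faithful
  by_cases hinj : Function.Injective φ
  swap
  · have hlt : Nat.card φ.range + Nat.card Q < n := by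
      rw [← hn]
      refine Nat.add_lt_add_right (lt_of_le_of_ne (Nat.card_le_card_of_surjective _ φ.rangeRestrict_surjective)
        fun he => hinj ?_) _
      have := (Nat.bijective_iff_surjective_and_card φ.rangeRestrict).2 ⟨φ.rangeRestrict_surjective, he.symm⟩
      exact fun x y hxy => this.1 (Subtype.ext hxy)
    have himg : ∀ x : H, ((φ.rangeRestrict x : φ.range) : MulAut Q) = φ x := fun _ => rfl
    have hst' : StableAction p φ.range.subtype := by
      intro Q' a' g' ha' haQ hgQ hquad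
      obtain ⟨a₀, rfl⟩ := φ.rangeRestrict_surjective a'
      obtain ⟨g₀, rfl⟩ := φ.rangeRestrict_surjective g'
      obtain ⟨k, hk⟩ := ha'
      obtain ⟨a₁, -, ha₁, hmem⟩ := CfsgLib.GlaubermanZJ.exists_pElement_mk_eq (p := p) φ.rangeRestrict.ker
        (a := a₀) ⟨k, by rw [MonoidHom.mem_ker, map_pow, hk]⟩
      rw [MonoidHom.mem_ker, map_mul, map_inv, inv_mul_eq_one] at hmem
      rw [hmem] at haQ hquad ⊢
      intro h' hh'
      rw [← map_inv, ← map_mul, ← map_mul, ← Set.image_pair, ← MonoidHom.map_closure] at hh'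
      obtain ⟨h₀, hh₀, rfl⟩ := hh'
      obtain ⟨l, hl⟩ := hst Q' a₁ g₀ ha₁ haQ hgQ hquad h₀ hh₀
      exact ⟨l, fun q hq => by rw [← map_pow]; exact hl q hq⟩
    intro h
    obtain ⟨k, hk⟩ := IH _ hlt φ.range Q rfl hQ φ.range.subtype hst' Z hZc
      (by rintro ⟨_, x, rfl⟩ z hz; exact hZf x z hz) (φ.rangeRestrict a) (φ.rangeRestrict b)
      (hap.imp fun k hk => by rw [← map_pow, hk, map_one]) (hbp.imp fun k hk => by rw [← map_pow, hk, map_one])
      (by rw [← Set.image_pair, ← MonoidHom.map_closure, hgen,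
        Subgroup.map_top_of_surjective _ φ.rangeRestrict_surjective]) ha hb (φ.rangeRestrict h)
    exact ⟨k, by rw [← map_pow] at hk; exact hk⟩
  suffices hP : IsPGroup p H from fun h => (hP h).imp fun k hk => by rw [hk, map_one]
  by_contra hnp
  -- subgroups with two quadratic generators
  have hsub : ∀ a' b' : H, (∃ k : ℕ, a' ^ p ^ k = 1) → (∃ k : ℕ, b' ^ p ^ k = 1) →
      (∀ q, (q⁻¹ * φ a' q)⁻¹ * φ a' (q⁻¹ * φ a' q) ∈ Z) → (∀ q, (q⁻¹ * φ b' q)⁻¹ * φ b' (q⁻¹ * φ b' q) ∈ Z) →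
      Subgroup.closure ({a', b'} : Set H) ≠ ⊤ → IsPGroup p (Subgroup.closure ({a', b'} : Set H)) := by
    intro a' b' ha'p hb'p ha' hb' hne
    set K := Subgroup.closure ({a', b'} : Set H) with hK
    have hlt : Nat.card K + Nat.card Q < n := by
      rw [← hn]
      exact Nat.add_lt_add_right (lt_of_le_of_ne (Subgroup.card_le_card_group K)
        fun he => hne (Subgroup.eq_top_of_card_eq K he)) _
    have haK : a' ∈ K := Subgroup.subset_closure (Set.mem_insert _ _)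
    have hbK : b' ∈ K := Subgroup.subset_closure (Set.mem_insert_of_mem _ rfl)
    have hst' : StableAction p (φ.comp K.subtype) := by
      intro Q' x g ⟨k, hk⟩ hxQ hgQ hquad h hh
      have hh' : (h : H) ∈ Subgroup.closure ({(x : H), (g : H) * x * (g : H)⁻¹} : Set H) := by
        have := Subgroup.mem_map_of_mem K.subtype hh
        rwa [MonoidHom.map_closure, Set.image_pair] at this
      exact hst Q' x g ⟨k, congrArg Subtype.val hk⟩ hxQ hgQ hquad h hh'
    intro h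
    obtain ⟨k, hk⟩ := IH _ hlt K Q rfl hQ (φ.comp K.subtype) hst' Z hZc (fun y => hZf y) ⟨a', haK⟩ ⟨b', hbK⟩
      (ha'p.imp fun k hk => Subtype.ext hk) (hb'p.imp fun k hk => Subtype.ext hk)
      CfsgLib.GlaubermanZJ.closure_pair_eq_top ha' hb' h
    exact ⟨k, Subtype.ext (hinj (hk.trans (map_one φ).symm))⟩
  have hconj : ∀ g : H, ∀ q, (q⁻¹ * φ (g * a * g⁻¹) q)⁻¹ * φ (g * a * g⁻¹) (q⁻¹ * φ (g * a * g⁻¹) q) ∈ Z := by
    intro g q
    set r := φ g⁻¹ q with hr
    have hgr : φ g r = q := by rw [hr, ← MulAut.mul_apply, ← map_mul, mul_inv_cancel, map_one, MulAut.one_apply]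
    have hc : ∀ y, φ (g * a * g⁻¹) (φ g y) = φ g (φ a y) := fun y => by
      rw [← MulAut.mul_apply, ← map_mul, inv_mul_cancel_right, map_mul, MulAut.mul_apply]
    rw [← hgr, hc r, ← map_inv, ← map_mul, hc, ← map_inv, ← map_mul]
    rw [hZf g _ (ha r)]
    exact ha r
  -- the second generator may be taken conjugate to the first
  obtain ⟨g, hgg⟩ : ∃ g : H, ¬ IsPGroup p (Subgroup.closure ({a, g * a * g⁻¹} : Set H)) := by
    by_contra hall
    push Not at hall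
    have h1 : a ∈ pCore p H := CfsgLib.BaerSuzuki.mem_pCore a hall
    haveI : (pCore p H).Normal := pCore_normal p H
    refine hnp fun h => ?_
    have htop : pCore p H ⊔ Subgroup.zpowers b = ⊤ := by
      rw [eq_top_iff, ← hgen, Subgroup.closure_le]
      rintro z (rfl | rfl)
      · exact Subgroup.mem_sup_left h1
      · exact Subgroup.mem_sup_right (Subgroup.mem_zpowers _)
    have hbz : IsPGroup p (Subgroup.zpowers b) := by
      rintro ⟨_, i, rfl⟩
      obtain ⟨k, hk⟩ := hbp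
      exact ⟨k, Subtype.ext (by
        show (b ^ i) ^ p ^ k = 1
        rw [← zpow_natCast, zpow_comm, zpow_natCast, hk, one_zpow])⟩
    obtain ⟨k, hk⟩ := IsPGroup.to_sup_of_normal_left CfsgLib.LocalP.isPGroup_pCore hbz ⟨h, htop ▸ Subgroup.mem_top h⟩
    exact ⟨k, congrArg Subtype.val hk⟩
  set c := g * a * g⁻¹ with hc
  have hcp : ∃ k : ℕ, c ^ p ^ k = 1 := hap.imp fun k hk => conj_pow_eq_one hk g
  have hgc : Subgroup.closure ({a, c} : Set H) = ⊤ := by
    by_contra hne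
    exact hgg (hsub a c hap hcp ha (hconj g) hne)
  -- a largest proper invariant subgroup
  have hZtop : Z ≠ ⊤ := by
    intro hZ
    refine hnp fun h => ⟨0, hinj (MulEquiv.ext fun q => ?_)⟩
    rw [map_one, MulAut.one_apply]
    exact hZf _ q (hZ ▸ Subgroup.mem_top q)
  obtain ⟨Q₀, ⟨hZQ₀, hQ₀top, hQ₀inv⟩, hmax⟩ : ∃ Q₀ : Subgroup Q,
      (Z ≤ Q₀ ∧ Q₀ ≠ ⊤ ∧ ∀ g, ∀ q ∈ Q₀, φ g q ∈ Q₀) ∧
      ∀ K : Subgroup Q, Q₀ ≤ K → K ≠ ⊤ → (∀ g, ∀ q ∈ K, φ g q ∈ K) → K = Q₀ := by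
    obtain ⟨Q₀, hQ₀, hmax⟩ := Set.Finite.exists_maximalFor (id : Subgroup Q → Subgroup Q)
      {K | Z ≤ K ∧ K ≠ ⊤ ∧ ∀ g, ∀ q ∈ K, φ g q ∈ K} (Set.toFinite _)
      ⟨Z, le_rfl, hZtop, fun g q hq => by rwa [hZf g q hq]⟩
    exact ⟨Q₀, hQ₀, fun K hle hK hKinv => le_antisymm (hmax ⟨hQ₀.1.trans hle, hK, hKinv⟩ hle) hle⟩
  have htopOrEq : ∀ K : Subgroup Q, Q₀ ≤ K → (∀ g, ∀ q ∈ K, φ g q ∈ K) → K = Q₀ ∨ K = ⊤ := fun K h1 h2 =>
    or_iff_not_imp_right.2 fun h => hmax K h1 h h2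
  haveI : Group.IsNilpotent Q := hQ.isNilpotent
  haveI hQ₀n : Q₀.Normal := by
    rw [← Subgroup.normalizer_eq_top_iff]
    refine (htopOrEq _ Subgroup.le_normalizer fun g q hq => ?_).resolve_left fun he => ?_
    · rw [Subgroup.mem_normalizer_iff] at hq ⊢
      intro y
      obtain ⟨y, rfl⟩ := (φ g).surjective y
      have hiff : ∀ w, φ g w ∈ Q₀ ↔ w ∈ Q₀ := fun w => ⟨fun hw => by
        have := map_eq_of_apply_mem (hQ₀inv g) _ hw
        rwa [MulEquiv.symm_apply_apply] at this, hQ₀inv g w⟩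
      rw [← map_inv, ← map_mul, ← map_mul, hiff, hiff]
      exact hq y
    · exact (Group.normalizerCondition_of_isNilpotent Q₀ (lt_top_iff_ne_top.2 hQ₀top)).ne' he
  -- `p'`-elements fix proper invariant subgroups
  have hfix : ∀ e : H, (orderOf e).Coprime p → ∀ K : Subgroup Q, Z ≤ K → K ≠ ⊤ →
      (∀ g, ∀ q ∈ K, φ g q ∈ K) → ∀ q ∈ K, φ e q = q := by
    intro e he K hZK hKtop hKinv q hq
    have hlt : Nat.card H + Nat.card K < n := by
      rw [← hn]
      exact Nat.add_lt_add_left (lt_of_le_of_ne (Subgroup.card_le_card_group K)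
        fun he => hKtop (Subgroup.eq_top_of_card_eq K he)) _
    have hst' : StableAction p (restrictAct φ K hKinv) := by
      intro Q' x g' hx hxQ hgQ hquad h hh
      have hQ'eq : ∀ w ∈ Q'.map K.subtype, ∃ h : w ∈ K, (⟨w, h⟩ : K) ∈ Q' := by
        rintro _ ⟨w, hw, rfl⟩
        exact ⟨w.2, hw⟩
      obtain ⟨k, hk⟩ := hst (Q'.map K.subtype) x g' hx
        (fun w hw => ⟨_, hxQ _ (hQ'eq w hw).2, rfl⟩) (fun w hw => ⟨_, hgQ _ (hQ'eq w hw).2, rfl⟩)
        (fun w hw => congrArg Subtype.val (hquad _ (hQ'eq w hw).2)) h hh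
      exact ⟨k, fun w hw => Subtype.ext (hk w ⟨w, hw, rfl⟩)⟩
    obtain ⟨k, hk⟩ := IH _ hlt H K rfl (hQ.to_subgroup K) (restrictAct φ K hKinv) hst' (Z.subgroupOf K)
      (fun z hz => Subgroup.mem_center_iff.2 fun w => Subtype.ext (Subgroup.mem_center_iff.1 (hZc hz) (w : Q)))
      (fun y z hz => Subtype.ext (hZf y _ hz)) a b hap hbp hgen (fun w => ha w) (fun w => hb w) e
    obtain ⟨j, hj⟩ : ∃ j : ℕ, e = (e ^ p ^ k) ^ j := by
      have hcop : (p ^ k).Coprime (orderOf e) := (he.symm).pow_left k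
      obtain ⟨m, hm⟩ := exists_pow_eq_self_of_coprime hcop
      exact ⟨m, hm.symm⟩
    have h2 : restrictAct φ K hKinv e = 1 := by rw [hj, map_pow, hk, one_pow]
    exact congrArg Subtype.val (MulEquiv.congr_fun h2 ⟨q, hq⟩)
  have hfix₀ : ∀ e : H, (orderOf e).Coprime p → ∀ q ∈ Q₀, φ e q = q :=
    fun e he => hfix e he Q₀ hZQ₀ hQ₀top hQ₀inv
  have hcopQ : ∀ {m : ℕ}, m.Coprime p → ∀ z : Q, (orderOf z).Coprime m := by
    intro m hm z
    obtain ⟨k, hk⟩ := hQ z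
    exact ((hm.pow_right k).coprime_dvd_right (orderOf_dvd_of_pow_eq_one hk)).symm
  -- some `p'`-element moves the top layer
  have hmove : ¬ ∀ e : H, (orderOf e).Coprime p → ∀ q, q⁻¹ * φ e q ∈ Q₀ := by
    intro hall
    refine hnp fun h => ?_
    obtain ⟨j, m, hm, hjm⟩ :=
      Nat.exists_eq_pow_mul_and_not_dvd (orderOf_pos h).ne' p (Fact.out : p.Prime).ne_one
    have he : (orderOf (h ^ p ^ j)).Coprime p := by
      refine Nat.Coprime.coprime_dvd_left (orderOf_dvd_of_pow_eq_one (n := m) ?_)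
        (((Fact.out : p.Prime).coprime_iff_not_dvd).2 hm).symm
      rw [← pow_mul, ← hjm, pow_orderOf_eq_one]
    refine ⟨j, hinj (MulEquiv.ext fun q => ?_)⟩
    rw [map_one, MulAut.one_apply]
    exact apply_eq_self_of_stab (n := orderOf (h ^ p ^ j)) _ (by rw [← map_pow, pow_orderOf_eq_one, map_one])
      (hfix₀ _ he) (fun z _ => hcopQ he z) (hall _ he q)
  -- `Q₀` is central
  have hQ₀c : Q₀ ≤ Subgroup.center Q := by
    set C₁ := Subgroup.centralizer (Q₀ : Set Q) with hC₁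
    have hC₁inv : ∀ g, ∀ q ∈ C₁, φ g q ∈ C₁ := fun g q hq => Subgroup.mem_centralizer_iff.2 fun z hz => by
      obtain ⟨w, hw, rfl⟩ : ∃ w ∈ Q₀, φ g w = z :=
        ⟨_, map_eq_of_apply_mem (hQ₀inv g) z hz, MulEquiv.apply_symm_apply _ _⟩
      rw [← map_mul, ← map_mul, Subgroup.mem_centralizer_iff.1 hq w hw]
    have hZC : Z ≤ C₁ := fun z hz =>
      Subgroup.mem_centralizer_iff.2 fun w _ => Subgroup.mem_center_iff.1 (hZc hz) w
    suffices hC : C₁ = ⊤ from fun z hz => Subgroup.mem_center_iff.2 fun w =>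
      (Subgroup.mem_centralizer_iff.1 (hC ▸ Subgroup.mem_top w : w ∈ C₁) z hz).symm
    by_contra hne
    have hmem : ∀ e : H, (orderOf e).Coprime p → ∀ q, q⁻¹ * φ e q ∈ C₁ := by
      intro e he q
      refine Subgroup.mem_centralizer_iff.2 fun z hz => ?_
      have h1 : q * z * q⁻¹ ∈ Q₀ := hQ₀n.conj_mem z hz q
      have h2 := hfix₀ e he _ h1
      rw [map_mul, map_mul, map_inv, hfix₀ e he z hz] at h2
      have h3 : φ e q * z = q * z * q⁻¹ * φ e q := by rw [← h2, inv_mul_cancel_right]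
      calc z * (q⁻¹ * φ e q) = q⁻¹ * (q * z * q⁻¹ * φ e q) := by group
        _ = q⁻¹ * (φ e q * z) := by rw [h3]
        _ = q⁻¹ * φ e q * z := by group
    rcases htopOrEq (C₁ ⊔ Q₀) le_sup_right (fun g q hq => by
        rw [← SetLike.mem_coe, Subgroup.normal_mul] at hq ⊢
        obtain ⟨x, hx, y, hy, rfl⟩ := hq
        exact ⟨φ g x, hC₁inv g x hx, φ g y, hQ₀inv g y hy, (map_mul _ _ _).symm⟩) with h | h
    · exact hmove fun e he q => h ▸ Subgroup.mem_sup_left (hmem e he q)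
    · refine hmove fun e he q => ?_
      have hq : q ∈ C₁ ⊔ Q₀ := h ▸ Subgroup.mem_top q
      rw [← SetLike.mem_coe, Subgroup.normal_mul] at hq
      obtain ⟨x, hx, y, hy, rfl⟩ := hq
      rw [map_mul, hfix e he C₁ hZC hne hC₁inv x hx, hfix₀ e he y hy, inv_mul_cancel]
      exact one_mem _
  have hcomm0 : ∀ z ∈ Q₀, ∀ q : Q, q * z = z * q := fun z hz q => Subgroup.mem_center_iff.1 (hQ₀c hz) q
  -- the top layer is elementary abelian
  haveI : Nontrivial (Q ⧸ Q₀) := QuotientGroup.nontrivial_iff.2 hQ₀top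
  have hel : ∀ v : Q ⧸ Q₀, v ^ p = 1 ∧ ∀ w, v * w = w * v := by
    set U : Subgroup (Q ⧸ Q₀) :=
      { carrier := {v | v ^ p = 1 ∧ ∀ w, v * w = w * v}
        one_mem' := ⟨one_pow p, fun w => by rw [one_mul, mul_one]⟩
        mul_mem' := fun {x y} hx hy => ⟨by rw [Commute.mul_pow (hx.2 y), hx.1, hy.1, one_mul],
          fun w => by rw [mul_assoc, hy.2 w, ← mul_assoc, hx.2 w, mul_assoc]⟩
        inv_mem' := fun {x} hx => ⟨by rw [inv_pow, hx.1, inv_one],
          fun w => (Commute.inv_left (hx.2 w)).eq⟩ } with hU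
    have hU' : U.comap (QuotientGroup.mk' Q₀) = ⊤ := by
      refine (htopOrEq _ (fun q hq => ?_) fun g q hq => ?_).resolve_left fun he => ?_
      · show ((q : Q) : Q ⧸ Q₀) ∈ U
        rw [(QuotientGroup.eq_one_iff q).2 hq]
        exact one_mem _
      · show quotAct φ Q₀ hQ₀inv g (q : Q ⧸ Q₀) ∈ U
        refine ⟨by rw [← map_pow]; exact (congrArg _ hq.1).trans (map_one _), fun w => ?_⟩
        obtain ⟨w, rfl⟩ := (quotAct φ Q₀ hQ₀inv g).surjective w
        rw [← map_mul, ← map_mul]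
        exact congrArg _ (hq.2 w)
      · haveI := (hQ.to_quotient Q₀).center_nontrivial
        obtain ⟨k, hk0, hk⟩ :=
          ((hQ.to_quotient Q₀).to_subgroup (Subgroup.center (Q ⧸ Q₀))).nontrivial_iff_card.1 inferInstance
        obtain ⟨z, hz⟩ := exists_prime_orderOf_dvd_card' (G := Subgroup.center (Q ⧸ Q₀)) p
          (by rw [hk]; exact dvd_pow_self p hk0.ne')
        obtain ⟨q, hq⟩ := QuotientGroup.mk'_surjective Q₀ z
        have hzU : (z : Q ⧸ Q₀) ∈ U := ⟨by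
          have := congrArg Subtype.val (pow_orderOf_eq_one z)
          rwa [hz, SubgroupClass.coe_pow, OneMemClass.coe_one] at this,
          fun w => (Subgroup.mem_center_iff.1 z.2 w).symm⟩
        have : q ∈ U.comap (QuotientGroup.mk' Q₀) := by rw [Subgroup.mem_comap, hq]; exact hzU
        rw [he, ← QuotientGroup.eq_one_iff] at this
        have hz1 : z = 1 := Subtype.ext (hq.symm.trans this)
        rw [hz1, orderOf_one] at hz
        exact (Fact.out : p.Prime).one_lt.ne hz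
    intro v
    obtain ⟨q, rfl⟩ := QuotientGroup.mk'_surjective Q₀ v
    exact (hU'.ge (Subgroup.mem_top q) :)
  letI : CommGroup (Q ⧸ Q₀) := { (inferInstance : Group (Q ⧸ Q₀)) with mul_comm := fun v w => (hel v).2 w }
  set ψ := quotAct φ Q₀ hQ₀inv with hψ
  set ψ' := ψ.rangeRestrict with hψ'
  have hψs : Function.Surjective ψ' := ψ.rangeRestrict_surjective
  have hXnp : ¬ IsPGroup p ψ.range := by
    intro hX
    refine hmove fun e he q => ?_
    obtain ⟨k, hk⟩ := hX (ψ' e)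
    obtain ⟨m, hm⟩ := exists_pow_eq_self_of_coprime ((he.symm).pow_left k : (p ^ k).Coprime (orderOf e))
    have h1 : ψ e = 1 := by
      rw [← hm, map_pow, map_pow, show ψ e ^ p ^ k = 1 from congrArg Subtype.val hk, one_pow]
    rw [← QuotientGroup.eq]
    exact ((MulEquiv.congr_fun h1 (q : Q ⧸ Q₀)).symm : _)
  have hpV : ∀ x : Additive (Q ⧸ Q₀), p • x = 0 := fun x =>
    Additive.toMul.injective (by rw [toMul_nsmul, toMul_zero]; exact (hel _).1)
  letI : Module (ZMod p) (Additive (Q ⧸ Q₀)) := AddCommGroup.zmodModule (n := p) hpV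
  haveI : Finite (Additive (Q ⧸ Q₀)) := inferInstanceAs (Finite (Q ⧸ Q₀))
  let ρ := CfsgLib.QdSection.actionEnd (p := p) (A := Q ⧸ Q₀) ψ.range.subtype
  have hρ : ∀ (h : H) (q : Q), ρ (ψ' h) (Additive.ofMul (q : Q ⧸ Q₀)) = Additive.ofMul ((φ h q : Q) : Q ⧸ Q₀) :=
    fun h q => rfl
  have hρinj : Function.Injective ρ := fun x y hxy => Subtype.ext (MulEquiv.ext fun v =>
    congrArg Additive.toMul (LinearMap.congr_fun hxy (Additive.ofMul v)))
  have hirr : ∀ U : Submodule (ZMod p) (Additive (Q ⧸ Q₀)),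
      (∀ x, ∀ v ∈ U, ρ x v ∈ U) → U = ⊥ ∨ U = ⊤ := by
    intro U hU
    let K : Subgroup Q :=
      { carrier := {q | Additive.ofMul (q : Q ⧸ Q₀) ∈ U}
        one_mem' := U.zero_mem
        mul_mem' := fun {x y} hx hy => U.add_mem hx hy
        inv_mem' := fun {x} hx => U.neg_mem hx }
    rcases htopOrEq K (fun q hq => by
        show Additive.ofMul (q : Q ⧸ Q₀) ∈ U
        rw [(QuotientGroup.eq_one_iff q).2 hq]; exact U.zero_mem)
      (fun g q hq => by
        show Additive.ofMul ((φ g q : Q) : Q ⧸ Q₀) ∈ U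
        rw [← hρ]; exact hU _ _ hq) with h | h
    · left
      rw [Submodule.eq_bot_iff]
      intro v hv
      obtain ⟨q, hq⟩ := QuotientGroup.mk'_surjective Q₀ v.toMul
      have hq' : q ∈ K := by
        show Additive.ofMul (q : Q ⧸ Q₀) ∈ U
        rw [show ((q : Q) : Q ⧸ Q₀) = v.toMul from hq]; exact hv
      rw [h, ← QuotientGroup.eq_one_iff] at hq'
      exact Additive.toMul.injective (hq.symm.trans hq')
    · right
      rw [Submodule.eq_top_iff']
      intro v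
      obtain ⟨q, hq⟩ := QuotientGroup.mk'_surjective Q₀ v.toMul
      have hq' : Additive.ofMul (q : Q ⧸ Q₀) ∈ U := (h ▸ Subgroup.mem_top q : q ∈ K)
      rwa [show ((q : Q) : Q ⧸ Q₀) = v.toMul from hq] at hq'
  have hquad : ∀ {h : H}, (∀ q, (q⁻¹ * φ h q)⁻¹ * φ h (q⁻¹ * φ h q) ∈ Z) →
      (ρ (ψ' h) - 1) * (ρ (ψ' h) - 1) = 0 := by
    intro h hh
    refine LinearMap.ext fun v => ?_
    obtain ⟨q, hq⟩ := QuotientGroup.mk'_surjective Q₀ v.toMul
    obtain rfl : v = Additive.ofMul (q : Q ⧸ Q₀) := Additive.toMul.injective hq.symm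
    simp only [Module.End.mul_apply, LinearMap.sub_apply, Module.End.one_apply, LinearMap.zero_apply, hρ]
    rw [sub_eq_zero]
    have e : Additive.ofMul ((φ h q : Q) : Q ⧸ Q₀) - Additive.ofMul (q : Q ⧸ Q₀) =
        Additive.ofMul ((q⁻¹ * φ h q : Q) : Q ⧸ Q₀) := by
      rw [sub_eq_neg_add]; rfl
    rw [e, hρ]
    exact congrArg Additive.ofMul (QuotientGroup.eq.2 (hZQ₀ (hh q))).symm
  have hpimg : ∀ x : H, Subgroup.closure ({ψ' a, ψ' x * ψ' a * (ψ' x)⁻¹} : Set ψ.range) =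
      (Subgroup.closure ({a, x * a * x⁻¹} : Set H)).map ψ' := fun x => by
    rw [MonoidHom.map_closure, Set.image_pair, map_mul, map_mul, map_inv]
  have hgenX : Subgroup.closure ({ψ' a, ψ' g * ψ' a * (ψ' g)⁻¹} : Set ψ.range) = ⊤ := by
    rw [hpimg, hgc, Subgroup.map_top_of_surjective _ hψs]
  obtain ⟨τ, hτc, v, hv0, hτv⟩ := exists_central_neg (p := p) hp hgenX (fun x => by
      obtain ⟨x, rfl⟩ := hψs x
      rw [hpimg]
      by_cases h : Subgroup.closure ({a, x * a * x⁻¹} : Set H) = ⊤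
      · exact Or.inl (by rw [h, Subgroup.map_top_of_surjective _ hψs])
      · exact Or.inr ((hsub a _ hap (hap.imp fun k hk => conj_pow_eq_one hk x) ha (hconj x) h).map ψ'))
    ρ hρinj hirr (hquad ha) (by rw [← map_inv, ← map_mul, ← map_mul]; exact hquad (hconj g)) hXnp
  -- a `p'`-element acting fixed-point-freely and centrally on the top layer
  obtain ⟨t, htp, htc, htf⟩ : ∃ t : H, (orderOf t).Coprime p ∧ (∀ h, ψ (t * h) = ψ (h * t)) ∧
      ∀ q, q⁻¹ * φ t q ∈ Q₀ → q ∈ Q₀ := by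
    obtain ⟨t₀, rfl⟩ := hψs τ
    obtain ⟨j, m, hm, hjm⟩ :=
      Nat.exists_eq_pow_mul_and_not_dvd (orderOf_pos t₀).ne' p (Fact.out : p.Prime).ne_one
    set t := t₀ ^ p ^ j with ht
    have htc : ∀ h, ψ (t * h) = ψ (h * t) := by
      intro h
      have h1 : Commute (ψ' t₀) (ψ' h) := hτc (ψ' h)
      have h2 := congrArg Subtype.val (h1.pow_left (p ^ j)).eq
      simp only [Subgroup.coe_mul, SubgroupClass.coe_pow] at h2
      rw [map_mul, map_mul, ht, map_pow]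
      exact h2
    refine ⟨t, ?_, htc, ?_⟩
    · refine Nat.Coprime.coprime_dvd_left (orderOf_dvd_of_pow_eq_one (n := m) ?_)
        (((Fact.out : p.Prime).coprime_iff_not_dvd).2 hm).symm
      rw [← pow_mul, ← hjm, pow_orderOf_eq_one]
    · let K : Subgroup Q :=
        { carrier := {q | ψ t (q : Q ⧸ Q₀) = q}
          one_mem' := map_one _
          mul_mem' := fun {x y} hx hy => by
            show ψ t ((x : Q ⧸ Q₀) * y) = _
            rw [map_mul, hx, hy]; rfl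
          inv_mem' := fun {x} hx => by
            show ψ t ((x : Q ⧸ Q₀)⁻¹) = _
            rw [map_inv, hx]; rfl }
      have hKinv : ∀ g, ∀ q ∈ K, φ g q ∈ K := fun g q hq => by
        show ψ t (ψ g (q : Q ⧸ Q₀)) = ψ g q
        rw [← MulAut.mul_apply, ← map_mul, htc, map_mul, MulAut.mul_apply, show ψ t (q : Q ⧸ Q₀) = q from hq]
      intro q hq
      rcases htopOrEq K (fun z hz => by
          show ψ t (z : Q ⧸ Q₀) = z
          rw [(QuotientGroup.eq_one_iff z).2 hz, map_one]) hKinv with h | h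
      · rw [← h]
        exact (QuotientGroup.eq.2 hq).symm
      · exfalso
        have hall : ∀ k : ℕ, ρ (ψ' t₀ ^ k) v = (-1 : ZMod p) ^ k • v := by
          intro k
          induction k with
          | zero => simp
          | succ k ih =>
            rw [pow_succ', map_mul, Module.End.mul_apply, ih, map_smul, hτv, pow_succ, mul_smul, neg_one_smul]
        have h1 := hall (p ^ j)
        rw [← map_pow, Odd.neg_one_pow hodd.pow, neg_one_smul] at h1
        obtain ⟨w, hw⟩ := QuotientGroup.mk'_surjective Q₀ v.toMul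
        obtain rfl : v = Additive.ofMul (w : Q ⧸ Q₀) := Additive.toMul.injective hw.symm
        rw [hρ] at h1
        have h2 : ((φ t w : Q) : Q ⧸ Q₀) = w := (h ▸ Subgroup.mem_top w : w ∈ K)
        rw [← ht, h2] at h1
        have h3 : (2 : ZMod p) • Additive.ofMul (w : Q ⧸ Q₀) = 0 := by
          rw [two_smul]; nth_rewrite 1 [h1]; exact neg_add_cancel _
        refine hv0 ((smul_eq_zero.1 h3).resolve_left ?_)
        intro h2'
        have : (p : ℕ) ∣ 2 := (ZMod.natCast_eq_zero_iff _ _).1 (by exact_mod_cast h2')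
        exact hp ((Nat.prime_dvd_prime_iff_eq Fact.out Nat.prime_two).1 this)
  have ht₀ : ∀ q ∈ Q₀, φ t q = q := hfix₀ t htp
  -- the two generators act equally on `Q₀`
  have hac : ∀ z ∈ Q₀, φ c z = φ a z := by
    set χ := (restrictAct φ Q₀ hQ₀inv).rangeRestrict with hχ
    have hχs : Function.Surjective χ := MonoidHom.rangeRestrict_surjective _
    have hR : IsPGroup p (restrictAct φ Q₀ hQ₀inv).range := by
      rintro ⟨_, h, rfl⟩
      obtain ⟨j, m, hm, hjm⟩ :=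
        Nat.exists_eq_pow_mul_and_not_dvd (orderOf_pos h).ne' p (Fact.out : p.Prime).ne_one
      refine ⟨j, Subtype.ext ?_⟩
      show restrictAct φ Q₀ hQ₀inv h ^ p ^ j = 1
      rw [← map_pow]
      refine MulEquiv.ext fun z => Subtype.ext (hfix₀ _ ?_ _ z.2)
      refine Nat.Coprime.coprime_dvd_left (orderOf_dvd_of_pow_eq_one (n := m) ?_)
        (((Fact.out : p.Prime).coprime_iff_not_dvd).2 hm).symm
      rw [← pow_mul, ← hjm, pow_orderOf_eq_one]
    haveI : Group.IsNilpotent (restrictAct φ Q₀ hQ₀inv).range := hR.isNilpotent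
    have h1 : χ g * χ a * (χ g)⁻¹ = χ a := commute_of_closure_conj (by
      rw [← map_inv, ← map_mul, ← map_mul, ← Set.image_pair, ← MonoidHom.map_closure, hgc,
        Subgroup.map_top_of_surjective _ hχs])
    rw [← map_inv, ← map_mul, ← map_mul] at h1
    exact fun z hz => congrArg Subtype.val (MulEquiv.congr_fun (congrArg Subtype.val h1) ⟨z, hz⟩)
  -- commutators
  have hcm : ∀ x y : Q, ⁅x, y⁆ ∈ Q₀ := fun x y => by
    rw [← QuotientGroup.eq_one_iff, ← QuotientGroup.mk'_apply, map_commutatorElement,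
      commutatorElement_eq_one_iff_mul_comm]
    exact (hel _).2 _
  have hbl : ∀ x y z : Q, ⁅x * y, z⁆ = ⁅x, z⁆ * ⁅y, z⁆ := fun x y z => by
    calc ⁅x * y, z⁆ = x * ⁅y, z⁆ * x⁻¹ * ⁅x, z⁆ := by simp only [commutatorElement_def]; group
      _ = ⁅y, z⁆ * ⁅x, z⁆ := by rw [hcomm0 _ (hcm y z) x, mul_inv_cancel_right]
      _ = _ := hcomm0 _ (hcm x z) _
  have hbr : ∀ x y z : Q, ⁅x, y * z⁆ = ⁅x, y⁆ * ⁅x, z⁆ := fun x y z => by
    calc ⁅x, y * z⁆ = ⁅x, y⁆ * (y * ⁅x, z⁆ * y⁻¹) := by simp only [commutatorElement_def]; group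
      _ = _ := by rw [hcomm0 _ (hcm x z) y, mul_inv_cancel_right]
  have hz1 : ∀ z ∈ Q₀, ∀ x : Q, ⁅z, x⁆ = 1 ∧ ⁅x, z⁆ = 1 := fun z hz x =>
    ⟨commutatorElement_eq_one_iff_mul_comm.2 (hcomm0 z hz x).symm,
      commutatorElement_eq_one_iff_mul_comm.2 (hcomm0 z hz x)⟩
  have hcongr : ∀ {x x' y y' : Q}, x⁻¹ * x' ∈ Q₀ → y⁻¹ * y' ∈ Q₀ → ⁅x', y'⁆ = ⁅x, y⁆ := by
    intro x x' y y' hx hy
    obtain ⟨z, hz, rfl⟩ : ∃ z ∈ Q₀, x' = x * z := ⟨_, hx, (mul_inv_cancel_left _ _).symm⟩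
    obtain ⟨w, hw, rfl⟩ : ∃ w ∈ Q₀, y' = y * w := ⟨_, hy, (mul_inv_cancel_left _ _).symm⟩
    rw [hbl, hbr, (hz1 w hw x).2, (hz1 z hz _).1, mul_one, mul_one]
  have hd : ∀ (h : H) (q : Q), φ h q = q * (q⁻¹ * φ h q) := fun h q => (mul_inv_cancel_left _ _).symm
  have hDD : ∀ {h : H}, (∀ q, (q⁻¹ * φ h q)⁻¹ * φ h (q⁻¹ * φ h q) ∈ Z) →
      ∀ q, (q⁻¹ * φ h q)⁻¹ * φ h (q⁻¹ * φ h q) ∈ Q₀ := fun hh q => hZQ₀ (hh q)
  -- the images of `h - 1`
  let T : H → Subgroup Q := fun h => ((MonoidHom.id (Q ⧸ Q₀))⁻¹ * (ψ h).toMonoidHom).range.comap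
    (QuotientGroup.mk' Q₀)
  have hT : ∀ (h : H) (r : Q), r ∈ T h ↔ ∃ q, (q⁻¹ * φ h q)⁻¹ * r ∈ Q₀ := by
    intro h r
    constructor
    · rintro ⟨w, hw⟩
      obtain ⟨q, rfl⟩ := QuotientGroup.mk'_surjective Q₀ w
      exact ⟨q, QuotientGroup.eq.1 hw⟩
    · rintro ⟨q, hq⟩
      exact ⟨(q : Q ⧸ Q₀), QuotientGroup.eq.2 hq⟩
  have hTfix : ∀ {h : H}, (∀ q, (q⁻¹ * φ h q)⁻¹ * φ h (q⁻¹ * φ h q) ∈ Z) →
      ∀ r ∈ T h, r⁻¹ * φ h r ∈ Q₀ := by
    intro h hh r hr
    obtain ⟨q, hq⟩ := (hT h r).1 hr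
    set d := q⁻¹ * φ h q
    have h1 : ((φ h d : Q) : Q ⧸ Q₀) = d := (QuotientGroup.eq.2 (hDD hh q)).symm
    have h2 : (d : Q ⧸ Q₀) = r := QuotientGroup.eq.2 hq
    rw [← QuotientGroup.eq, ← quotAct_mk φ Q₀ hQ₀inv, ← h2, quotAct_mk, h1]
  have hcq := hconj g
  have hTT : T a ⊔ T c = ⊤ := by
    have hle : ∀ h, Q₀ ≤ T h := fun h z hz => (hT h z).2 ⟨1, by simpa using hz⟩
    refine (htopOrEq _ ((hle a).trans le_sup_left) (invariant_of_gen hgc (fun q hq => ?_) fun q hq => ?_)).resolve_left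
      fun he => ?_
    · rw [hd a q]
      exact mul_mem hq (Subgroup.mem_sup_left ((hT a _).2 ⟨q, by simp⟩))
    · rw [hd c q]
      exact mul_mem hq (Subgroup.mem_sup_right ((hT c _).2 ⟨q, by simp⟩))
    · refine hmove fun e _ q => ?_
      have hψ1 : ∀ x : H, ∀ r : Q, r⁻¹ * φ x r ∈ Q₀ := fun x => by
        refine CfsgLib.GlaubermanZJ.mem_of_closure_pair hgc (P := fun x => ∀ r : Q, r⁻¹ * φ x r ∈ Q₀)
          (fun r => by simp) (fun x y hx hy r => ?_)
          (fun r => he.le (Subgroup.mem_sup_left ((hT a _).2 ⟨r, by simp⟩)))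
          (fun r => he.le (Subgroup.mem_sup_right ((hT c _).2 ⟨r, by simp⟩))) x
        rw [map_mul, MulAut.mul_apply,
          show r⁻¹ * φ x (φ y r) = (r⁻¹ * φ y r) * ((φ y r)⁻¹ * φ x (φ y r)) by group]
        exact mul_mem (hy r) (hx _)
      exact hψ1 e q
  have hDcomm : ∀ r ∈ T a, ∀ r' ∈ T a, ⁅r, r'⁆ = 1 := by
    have key : ∀ β ∈ T c, ∀ β' ∈ T c, ⁅β⁻¹ * φ a β, β'⁻¹ * φ a β'⁆ = 1 := by
      intro β hβ β' hβ'
      set d := β⁻¹ * φ a β with hdβ
      set d' := β'⁻¹ * φ a β' with hdβ'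
      have hfc : φ a ⁅β, β'⁆ = ⁅β, β'⁆ := by
        rw [← hac _ (hcm _ _), map_commutatorElement]
        exact hcongr (hTfix hcq β hβ) (hTfix hcq β' hβ')
      have e1 : φ a ⁅β, β'⁆ = ⁅β, β'⁆ * ⁅β, d'⁆ * (⁅d, β'⁆ * ⁅d, d'⁆) := by
        have q1 : φ a β = β * d := hd a β
        have q2 : φ a β' = β' * d' := hd a β'
        rw [map_commutatorElement, q1, q2, hbl, hbr β β' d', hbr d β' d']
      have e2 : ⁅β, d'⁆ * (⁅d, β'⁆ * ⁅d, d'⁆) = 1 := by
        rw [hfc, mul_assoc, left_eq_mul] at e1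
        exact e1
      have hdd : d⁻¹ * φ a d ∈ Q₀ := hDD ha β
      have hdd' : d'⁻¹ * φ a d' ∈ Q₀ := hDD ha β'
      have f1 : φ a ⁅β, d'⁆ = ⁅β, d'⁆ * ⁅d, d'⁆ := by
        rw [map_commutatorElement, hd a β, ← hdβ]
        exact (hcongr (show (β * d)⁻¹ * (β * d) ∈ Q₀ by rw [inv_mul_cancel]; exact one_mem _) hdd').trans (hbl _ _ _)
      have f2 : φ a ⁅d, β'⁆ = ⁅d, β'⁆ * ⁅d, d'⁆ := by
        rw [map_commutatorElement, hd a β', ← hdβ']
        exact (hcongr hdd (show (β' * d')⁻¹ * (β' * d') ∈ Q₀ by rw [inv_mul_cancel]; exact one_mem _)).trans (hbr _ _ _)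
      have f3 : φ a ⁅d, d'⁆ = ⁅d, d'⁆ := by
        rw [map_commutatorElement]; exact hcongr hdd hdd'
      have e3 := congrArg (φ a) e2
      rw [map_mul, map_mul, f1, f2, f3, map_one] at e3
      have e4 : ⁅d, d'⁆ * ⁅d, d'⁆ = 1 := by
        have c1 : Commute ⁅d, d'⁆ (⁅d, β'⁆ * ⁅d, d'⁆) := (hcomm0 _ (hcm d d') _).symm
        calc ⁅d, d'⁆ * ⁅d, d'⁆ = ⁅β, d'⁆ * (⁅d, β'⁆ * ⁅d, d'⁆) * (⁅d, d'⁆ * ⁅d, d'⁆) := by rw [e2, one_mul]
          _ = ⁅β, d'⁆ * ((⁅d, β'⁆ * ⁅d, d'⁆) * ⁅d, d'⁆) * ⁅d, d'⁆ := by simp only [mul_assoc]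
          _ = ⁅β, d'⁆ * (⁅d, d'⁆ * (⁅d, β'⁆ * ⁅d, d'⁆)) * ⁅d, d'⁆ := by rw [c1.eq]
          _ = 1 := by rw [← e3]; simp only [mul_assoc]
      obtain ⟨k, hk⟩ := hQ ⁅d, d'⁆
      have h2 : orderOf ⁅d, d'⁆ ∣ 2 := orderOf_dvd_of_pow_eq_one (by rw [pow_two]; exact e4)
      have h3 := orderOf_dvd_of_pow_eq_one hk
      rw [← orderOf_eq_one_iff]
      exact Nat.eq_one_of_dvd_coprimes (Nat.Coprime.pow_left k ((Fact.out : p.Prime).coprime_iff_not_dvd.2
        fun h => hp ((Nat.prime_dvd_prime_iff_eq Fact.out Nat.prime_two).1 h))) h3 h2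
    have hred : ∀ r ∈ T a, ∃ β ∈ T c, r⁻¹ * (β⁻¹ * φ a β) ∈ Q₀ := by
      intro r hr
      obtain ⟨q, hq⟩ := (hT a r).1 hr
      set f := ((MonoidHom.id (Q ⧸ Q₀))⁻¹ * (ψ a).toMonoidHom).comp (QuotientGroup.mk' Q₀) with hf
      have hq' : f q = (r : Q ⧸ Q₀) := QuotientGroup.eq.2 hq
      have hkill : ∀ s ∈ T a, f s = 1 := fun s hs =>
        (QuotientGroup.eq_one_iff _).2 (hTfix ha s hs)
      have hle : (T a ⊔ T c).map f ≤ (T c).map f := by
        rw [Subgroup.map_sup, sup_le_iff]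
        refine ⟨?_, le_rfl⟩
        rintro _ ⟨s, hs, rfl⟩
        rw [hkill s hs]
        exact one_mem _
      obtain ⟨β, hβ, hβ'⟩ := hle (Subgroup.mem_map_of_mem f (hTT ▸ Subgroup.mem_top q))
      exact ⟨β, hβ, QuotientGroup.eq.1 (hq'.symm.trans hβ'.symm)⟩
    intro r hr r' hr'
    obtain ⟨β, hβ, h1⟩ := hred r hr
    obtain ⟨β', hβ', h2⟩ := hred r' hr'
    rw [← hcongr h1 h2]
    exact key β hβ β' hβ'
  have hfixcm : ∀ w ∈ commutator Q, φ a w = w := by
    have hgenfix : ∀ x y : Q, φ a ⁅x, y⁆ = ⁅x, y⁆ := by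
      have hin : ∀ s ∈ T a ⊔ T c, ∀ r ∈ T a ⊔ T c, φ a ⁅s, r⁆ = ⁅s, r⁆ := by
        have hsr : ∀ s : Q, ∀ S : Subgroup Q, (∀ r ∈ S, φ a ⁅s, r⁆ = ⁅s, r⁆) → ∀ S' : Subgroup Q,
            (∀ r ∈ S', φ a ⁅s, r⁆ = ⁅s, r⁆) → ∀ r ∈ S ⊔ S', φ a ⁅s, r⁆ = ⁅s, r⁆ := by
          intro s S hS S' hS' r hr
          let F : Subgroup Q :=
            { carrier := {r | φ a ⁅s, r⁆ = ⁅s, r⁆}
              one_mem' := by show φ a ⁅s, 1⁆ = ⁅s, 1⁆; rw [commutatorElement_one_right, map_one]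
              mul_mem' := fun {x y} hx hy => by
                show φ a ⁅s, x * y⁆ = ⁅s, x * y⁆
                rw [hbr, map_mul, hx, hy]
              inv_mem' := fun {x} hx => by
                show φ a ⁅s, x⁻¹⁆ = ⁅s, x⁻¹⁆
                have e : ⁅s, x⁻¹⁆ = ⁅s, x⁆⁻¹ := eq_inv_of_mul_eq_one_left (by
                  rw [← hbr, inv_mul_cancel, commutatorElement_one_right])
                rw [e, map_inv, hx] }
          exact (sup_le (show S ≤ F from hS) (show S' ≤ F from hS')) hr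
        have h11 : ∀ s ∈ T a, ∀ r ∈ T a, φ a ⁅s, r⁆ = ⁅s, r⁆ := fun s hs r hr => by
          rw [map_commutatorElement]; exact hcongr (hTfix ha s hs) (hTfix ha r hr)
        have h22 : ∀ s ∈ T c, ∀ r ∈ T c, φ a ⁅s, r⁆ = ⁅s, r⁆ := fun s hs r hr => by
          rw [← hac _ (hcm _ _), map_commutatorElement]; exact hcongr (hTfix hcq s hs) (hTfix hcq r hr)
        have h12 : ∀ s ∈ T a, ∀ r ∈ T c, φ a ⁅s, r⁆ = ⁅s, r⁆ := fun s hs r hr => by
          rw [map_commutatorElement, hd a r]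
          refine (hcongr (hTfix ha s hs) (show (r * (r⁻¹ * φ a r))⁻¹ * (r * (r⁻¹ * φ a r)) ∈ Q₀ by
            rw [inv_mul_cancel]; exact one_mem _)).trans ?_
          rw [hbr, hDcomm s hs (r⁻¹ * φ a r) ((hT a _).2 ⟨r, by simp⟩), mul_one]
        have h21 : ∀ s ∈ T c, ∀ r ∈ T a, φ a ⁅s, r⁆ = ⁅s, r⁆ := fun s hs r hr => by
          rw [← commutatorElement_inv r s, map_inv, h12 r hr s hs]
        intro s hs
        have : T a ⊔ T c ≤
            ({ carrier := {s | ∀ r ∈ T a ⊔ T c, φ a ⁅s, r⁆ = ⁅s, r⁆}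
               one_mem' := fun r _ => by rw [commutatorElement_one_left, map_one]
               mul_mem' := fun {x y} hx hy r hr => by rw [hbl, map_mul, hx r hr, hy r hr]
               inv_mem' := fun {x} hx r hr => by
                have e : ⁅x⁻¹, r⁆ = ⁅x, r⁆⁻¹ := eq_inv_of_mul_eq_one_left (by
                  rw [← hbl, inv_mul_cancel, commutatorElement_one_left])
                rw [e, map_inv, hx r hr] } : Subgroup Q) :=
          sup_le (fun s hs => hsr s _ (h11 s hs) _ (h12 s hs)) (fun s hs => hsr s _ (h21 s hs) _ (h22 s hs))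
        exact this hs
      exact fun x y => hin x (hTT ▸ Subgroup.mem_top x) y (hTT ▸ Subgroup.mem_top y)
    intro w hw
    have hle : commutator Q ≤ MonoidHom.eqLocus (φ a).toMonoidHom (MonoidHom.id Q) := by
      rw [commutator_def, Subgroup.commutator_le]
      exact fun x _ y _ => hgenfix x y
    exact hle hw
  -- correcting by stabilizer elements
  set P₀ : Subgroup H := ψ.ker ⊓ (restrictAct φ Q₀ hQ₀inv).ker with hP₀
  have hP₀z : ∀ {h : H}, h ∈ P₀ → (∀ q, q⁻¹ * φ h q ∈ Q₀) ∧ ∀ z ∈ Q₀, φ h z = z := fun {h} hh =>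
    ⟨fun q => QuotientGroup.eq.1 (MulEquiv.congr_fun (MonoidHom.mem_ker.1 hh.1) (q : Q ⧸ Q₀)).symm,
      fun z hz => congrArg Subtype.val (MulEquiv.congr_fun (MonoidHom.mem_ker.1 hh.2) ⟨z, hz⟩)⟩
  have hP₀c : ∀ x ∈ P₀, ∀ y ∈ P₀, x * y = y * x := fun x hx y hy => hinj (MulEquiv.ext fun q => by
    obtain ⟨hx1, hx2⟩ := hP₀z hx
    obtain ⟨hy1, hy2⟩ := hP₀z hy
    have key : ∀ u : H, (∀ z ∈ Q₀, φ u z = z) → ∀ w : H, q⁻¹ * φ w q ∈ Q₀ →
        φ u (φ w q) = q * ((q⁻¹ * φ u q) * (q⁻¹ * φ w q)) := by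
      intro u hu w hw
      calc φ u (φ w q) = φ u (q * (q⁻¹ * φ w q)) := by rw [← hd w q]
        _ = φ u q * (q⁻¹ * φ w q) := by rw [map_mul, hu _ hw]
        _ = _ := by rw [← mul_assoc q, ← hd u q]
    rw [map_mul, map_mul, MulAut.mul_apply, MulAut.mul_apply, key x hx2 y (hy1 q), key y hy2 x (hx1 q),
      hcomm0 _ (hy1 q) (q⁻¹ * φ x q)])
  have hP₀p : ∀ x ∈ P₀, x ^ p = 1 := fun x hx => hinj (MulEquiv.ext fun q => by
    obtain ⟨hx1, hx2⟩ := hP₀z hx
    have hpow : ∀ i : ℕ, φ (x ^ i) q = q * (q⁻¹ * φ x q) ^ i := by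
      intro i
      induction i with
      | zero => simp
      | succ i ih =>
        rw [pow_succ', map_mul, MulAut.mul_apply, ih, map_mul, map_pow, hx2 _ (hx1 q), pow_succ', ← mul_assoc,
          ← hd x q]
    rw [hpow, map_one, MulAut.one_apply]
    have hqp : q ^ p ∈ Q₀ := by
      rw [← QuotientGroup.eq_one_iff, QuotientGroup.mk_pow]
      exact (hel _).1
    have h1 := hx2 _ hqp
    rw [map_pow, hd x q, Commute.mul_pow (hcomm0 _ (hx1 q) q)] at h1
    rw [mul_eq_left.1 h1, mul_one])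
  haveI hP₀n : P₀.Normal := Subgroup.normal_inf_normal _ _
  have hadjust : ∀ h : H, ∃ ε ∈ P₀, Commute t (ε * h) := by
    intro h
    letI : CommGroup P₀ :=
      { (inferInstance : Group P₀) with mul_comm := fun x y => Subtype.ext (hP₀c x x.2 y y.2) }
    have hmem : ∀ i : ℕ, t ^ i * h * (t ^ i)⁻¹ * h⁻¹ ∈ P₀ := by
      intro i
      refine ⟨?_, ?_⟩
      · have hcm' : Commute (ψ t) (ψ h) := by
          show ψ t * ψ h = ψ h * ψ t
          rw [← map_mul, ← map_mul, htc]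
        show _ ∈ ψ.ker
        rw [MonoidHom.mem_ker, map_mul, map_mul, map_mul, map_inv, map_inv, map_pow,
          (hcm'.pow_left i).eq, mul_inv_cancel_right, mul_inv_cancel]
      · have hct : restrictAct φ Q₀ hQ₀inv t = 1 := MulEquiv.ext fun z => Subtype.ext (ht₀ _ z.2)
        show _ ∈ (restrictAct φ Q₀ hQ₀inv).ker
        rw [MonoidHom.mem_ker, map_mul, map_mul, map_mul, map_inv, map_inv, map_pow, hct, one_pow, one_mul,
          inv_one, mul_one, mul_inv_cancel]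
    set m := orderOf t with hm
    let δ : ℕ → P₀ := fun i => ⟨_, hmem i⟩
    obtain ⟨l, hl⟩ : ∃ l : ℕ, ((m * l : ℕ) : ZMod p) = 1 := by
      refine ⟨((m : ZMod p)⁻¹).val, ?_⟩
      rw [Nat.cast_mul, ZMod.natCast_zmod_val, mul_inv_cancel₀]
      rw [Ne, ZMod.natCast_eq_zero_iff]
      exact (Fact.out : p.Prime).coprime_iff_not_dvd.1 htp.symm
    let f : P₀ →* P₀ := (MulAut.conjNormal t : MulAut P₀).toMonoidHom
    have hf : ∀ i, f (δ i) * δ 1 = δ (i + 1) := fun i => Subtype.ext (by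
      show t * (t ^ i * h * (t ^ i)⁻¹ * h⁻¹) * t⁻¹ * (t ^ 1 * h * (t ^ 1)⁻¹ * h⁻¹) = _
      show _ = t ^ (i + 1) * h * (t ^ (i + 1))⁻¹ * h⁻¹
      rw [pow_one, pow_succ']; group)
    set S := ∏ i ∈ Finset.range m, δ i with hS
    have hδ0 : δ 0 = 1 := Subtype.ext (by show t ^ 0 * h * (t ^ 0)⁻¹ * h⁻¹ = 1; simp)
    have hδm : δ m = 1 := Subtype.ext (by
      show t ^ m * h * (t ^ m)⁻¹ * h⁻¹ = 1
      rw [hm, pow_orderOf_eq_one]; simp)
    have hfS : f S * δ 1 ^ m = S := by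
      have h1 := Finset.prod_range_succ δ m
      have h2 := Finset.prod_range_succ' δ m
      rw [hδm, mul_one] at h1
      rw [h1, hδ0, mul_one] at h2
      conv_rhs => rw [hS, h2]
      rw [hS, map_prod, ← Finset.card_range m, ← Finset.prod_const, Finset.card_range, ← Finset.prod_mul_distrib]
      exact Finset.prod_congr rfl fun i _ => hf i
    have hfε : f (S ^ l) * δ 1 = S ^ l := by
      have h1 := congrArg (· ^ l) hfS
      simp only [mul_pow, ← map_pow, ← pow_mul] at h1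
      have hml : (m * l) % p = 1 := by
        rw [← Nat.cast_one, ZMod.natCast_eq_natCast_iff'] at hl
        rwa [Nat.one_mod_eq_one.2 (Fact.out : p.Prime).ne_one] at hl
      have h2 : δ 1 ^ p = 1 := Subtype.ext (hP₀p _ (δ 1).2)
      rwa [pow_eq_pow_mod (m * l) h2, hml, pow_one] at h1
    refine ⟨((S ^ l : P₀) : H), (S ^ l).2, ?_⟩
    have h1 : t * ((S ^ l : P₀) : H) * t⁻¹ * (t * h * t⁻¹ * h⁻¹) = ((S ^ l : P₀) : H) := by
      have := congrArg Subtype.val hfε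
      simpa [f, δ] using this
    show t * (_ * h) = _ * h * t
    conv_rhs => rw [← h1]
    group
  obtain ⟨ε, hε, hεa⟩ := hadjust a
  set a' := ε * a with ha'def
  have ha'₀ : ∀ z ∈ Q₀, φ a' z = φ a z := fun z hz => by
    rw [ha'def, map_mul, MulAut.mul_apply, (hP₀z hε).2 _ (hQ₀inv a z hz)]
  have hψa' : ψ a' = ψ a := by rw [ha'def, map_mul, MonoidHom.mem_ker.1 hε.1, one_mul]
  have ha'p : ∃ k : ℕ, a' ^ p ^ k = 1 := by
    have hP₀P : IsPGroup p P₀ := fun x => ⟨1, Subtype.ext (by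
      rw [pow_one]; exact hP₀p x x.2)⟩
    have haz : IsPGroup p (Subgroup.zpowers a) := by
      rintro ⟨_, i, rfl⟩
      obtain ⟨k, hk⟩ := hap
      exact ⟨k, Subtype.ext (by
        show (a ^ i) ^ p ^ k = 1
        rw [← zpow_natCast, zpow_comm, zpow_natCast, hk, one_zpow])⟩
    obtain ⟨k, hk⟩ := IsPGroup.to_sup_of_normal_left hP₀P haz
      ⟨a', mul_mem (Subgroup.mem_sup_left hε) (Subgroup.mem_sup_right (Subgroup.mem_zpowers a))⟩
    exact ⟨k, congrArg Subtype.val hk⟩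
  have hcomt : ∀ {x : H}, Commute t x → ∀ q, φ x (φ t q) = φ t (φ x q) := fun {x} hx q => by
    rw [← MulAut.mul_apply, ← map_mul, ← hx.eq, map_mul, MulAut.mul_apply]
  -- the subgroup `[Q, t]`
  let F : Q →* Abelianization Q :=
    (Abelianization.of)⁻¹ * Abelianization.of.comp (φ t).toMonoidHom
  set Q₂ := F.range.comap Abelianization.of with hQ₂
  have hQ₂mem : ∀ r, r ∈ Q₂ ↔ ∃ s, (s⁻¹ * φ t s)⁻¹ * r ∈ commutator Q := by
    intro r
    have key : ∀ s, F s = Abelianization.of r ↔ (s⁻¹ * φ t s)⁻¹ * r ∈ commutator Q := fun s => by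
      rw [← Abelianization.ker_of, MonoidHom.mem_ker, map_mul, map_inv, inv_mul_eq_one, map_mul, map_inv]
      rfl
    exact ⟨fun ⟨s, hs⟩ => ⟨s, (key s).1 hs⟩, fun ⟨s, hs⟩ => ⟨s, (key s).2 hs⟩⟩
  have hpres : ∀ {x : H}, Commute t x → ∀ r ∈ Q₂, φ x r ∈ Q₂ := by
    intro x hx r hr
    obtain ⟨s, hs⟩ := (hQ₂mem r).1 hr
    refine (hQ₂mem _).2 ⟨φ x s, ?_⟩
    have h1 : φ x ((s⁻¹ * φ t s)⁻¹ * r) ∈ (commutator Q).map (φ x).toMonoidHom := ⟨_, hs, rfl⟩
    rw [commutator_def, Subgroup.map_commutator, Subgroup.map_top_of_surjective _ (φ x).surjective,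
      ← commutator_def, map_mul, map_inv, map_mul, map_inv, hcomt hx] at h1
    exact h1
  have hquad2 : ∀ q ∈ Q₂, φ a' (q⁻¹ * φ a' q) = q⁻¹ * φ a' q := by
    intro q hq
    set d := q⁻¹ * φ a' q with hdq
    have hdQ₂ : d ∈ Q₂ := mul_mem (inv_mem hq) (hpres hεa q hq)
    obtain ⟨s, hs⟩ := (hQ₂mem d).1 hdQ₂
    set w := (s⁻¹ * φ t s)⁻¹ * d with hw
    have hdw : d = s⁻¹ * φ t s * w := (mul_inv_cancel_left _ _).symm
    have hcQ₀ : commutator Q ≤ Q₀ := by
      rw [commutator_def, Subgroup.commutator_le]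
      exact fun x _ y _ => hcm x y
    have hw0 : w ∈ Q₀ := hcQ₀ hs
    set e := s⁻¹ * φ a' s with he
    have he0 : e ∈ Q₀ := by
      refine htf e ?_
      have hψd : ψ a' (d : Q ⧸ Q₀) = (d : Q ⧸ Q₀) := by
        have h1 : (d : Q ⧸ Q₀) = ((q⁻¹ * φ a q : Q) : Q ⧸ Q₀) := by
          rw [hdq, QuotientGroup.mk_mul, QuotientGroup.mk_mul, ← quotAct_mk φ Q₀ hQ₀inv, ← quotAct_mk φ Q₀ hQ₀inv,
            ← hψ, hψa']
        rw [hψa', h1, hψ, quotAct_mk]
        exact (QuotientGroup.eq.2 (hDD ha q)).symm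
      have h2 : (d : Q ⧸ Q₀) = (s : Q ⧸ Q₀)⁻¹ * ψ t (s : Q ⧸ Q₀) := (QuotientGroup.eq.2 hw0).symm
      rw [← QuotientGroup.eq, ← quotAct_mk φ Q₀ hQ₀inv, he, QuotientGroup.mk_mul, QuotientGroup.mk_inv,
        ← quotAct_mk φ Q₀ hQ₀inv, ← hψ]
      have h3 : ψ a' (ψ t (s : Q ⧸ Q₀)) = ψ t (ψ a' (s : Q ⧸ Q₀)) := by
        rw [← MulAut.mul_apply, ← map_mul, ← hεa.eq, map_mul, MulAut.mul_apply]
      have h4 := hψd
      rw [h2, map_mul, map_inv, h3] at h4
      rw [map_mul (ψ t), map_inv (ψ t)]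
      rw [inv_mul_eq_div, inv_mul_eq_div] at h4 ⊢
      first
        | exact (div_eq_div_iff_div_eq_div.1 h4).symm
        | exact (div_eq_div_iff_div_eq_div.1 h4)
    have hsz : φ a' s = s * e := (mul_inv_cancel_left _ _).symm
    rw [hdw, map_mul, map_mul, map_inv, hcomt hεa, hsz, map_mul, ht₀ e he0, mul_inv_rev,
      ha'₀ w hw0, hfixcm w hs]
    have hce : Commute e (s⁻¹ * φ t s) := (hcomm0 e he0 _).symm
    congr 1
    calc e⁻¹ * s⁻¹ * (φ t s * e) = e⁻¹ * ((s⁻¹ * φ t s) * e) := by group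
      _ = e⁻¹ * (e * (s⁻¹ * φ t s)) := by rw [hce.eq]
      _ = _ := inv_mul_cancel_left _ _
  -- every conjugate of `a` generates with it a `p`-group on the top layer
  have hcover : ∀ v : Q ⧸ Q₀, ∃ r ∈ Q₂, (r : Q ⧸ Q₀) = v := by
    intro v
    let m : Q ⧸ Q₀ →* Q ⧸ Q₀ := (MonoidHom.id _)⁻¹ * (ψ t).toMonoidHom
    have hmi : Function.Injective m := by
      rw [← MonoidHom.ker_eq_bot_iff, Subgroup.eq_bot_iff_forall]
      intro x hx
      obtain ⟨q, rfl⟩ := QuotientGroup.mk'_surjective Q₀ x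
      exact (QuotientGroup.eq_one_iff q).2 (htf q ((QuotientGroup.eq_one_iff _).1 hx))
    obtain ⟨w, rfl⟩ := (Finite.injective_iff_surjective.1 hmi) v
    obtain ⟨s, rfl⟩ := QuotientGroup.mk'_surjective Q₀ w
    exact ⟨s⁻¹ * φ t s, (hQ₂mem _).2 ⟨s, by rw [inv_mul_cancel]; exact one_mem _⟩, rfl⟩
  refine hXnp ?_
  have hmem : ψ' a ∈ pCore p ψ.range := by
    refine CfsgLib.BaerSuzuki.mem_pCore _ fun x => ?_
    obtain ⟨h, rfl⟩ := hψs x
    obtain ⟨ε', hε', hε'h⟩ := hadjust h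
    set h' := ε' * h with hh'
    have hP := hst Q₂ a' h' ha'p (hpres hεa) (hpres hε'h) hquad2
    have he1 : ψ' a' = ψ' a := Subtype.ext hψa'
    have he2 : ψ' h' = ψ' h := Subtype.ext (by
      show ψ h' = ψ h
      rw [hh', map_mul, MonoidHom.mem_ker.1 hε'.1, one_mul])
    rintro ⟨y, hy⟩
    rw [← he1, ← he2, ← map_inv, ← map_mul, ← map_mul, ← Set.image_pair, ← MonoidHom.map_closure] at hy
    obtain ⟨z, hz, rfl⟩ := hy
    obtain ⟨k, hk⟩ := hP z hz
    refine ⟨k, Subtype.ext (Subtype.ext (MulEquiv.ext fun v => ?_))⟩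
    obtain ⟨r, hr, rfl⟩ := hcover v
    show (ψ z ^ p ^ k) (r : Q ⧸ Q₀) = r
    rw [← map_pow]
    exact congrArg _ (hk r hr)
  haveI : (pCore p ψ.range).Normal := pCore_normal p _
  have htop : pCore p ψ.range = ⊤ := by
    rw [eq_top_iff, ← hgenX, Subgroup.closure_le]
    rintro z (rfl | rfl)
    · exact hmem
    · exact Subgroup.Normal.conj_mem inferInstance _ hmem _
  intro x
  obtain ⟨k, hk⟩ := (CfsgLib.LocalP.isPGroup_pCore : IsPGroup p (pCore p ψ.range)) ⟨x, htop ▸ Subgroup.mem_top x⟩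
  exact ⟨k, congrArg Subtype.val hk⟩

end CfsgLib.Fus.PStab
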