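import Cfsg.Agent.Fus.PStable.GroupStable
import Cfsg.Agent.GlaubermanZJ.SylowNormal
import Cfsg.Agent.GlaubermanZJ.Fusion
import Cfsg.Agent.GlaubermanZJ.AlperinInduction
import Cfsg.Agent.GlaubermanZJ.Constrained

/-!
The largest abelian normal subgroup of a `p`-group without nontrivial quadratic elements.
-/

set_option autoImplicit false

open Cfsg
open CfsgLib.ConjFunctor

namespace CfsgLib.Fus.PStab

universe u

variable {G : Type u} [Group G]

/-- `A` is an abelian normal subgroup of `S` on which only centralizing elements of `S` are quadratic. -/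
structure DProp (S A : Subgroup G) : Prop where
  le : A ≤ S
  normalized : S ≤ Subgroup.normalizer (A : Set G)
  comm : ∀ x ∈ A, ∀ y ∈ A, Commute x y
  quad : ∀ x ∈ S, Quad A x → ∀ a ∈ A, Commute x a

/-- The largest such subgroup. -/
def dStar (S : Subgroup G) : Subgroup G := sSup {A | DProp S A}

theorem DProp.le_dStar {S A : Subgroup G} (h : DProp S A) : A ≤ dStar S := le_sSup h

theorem DProp.conj_mem {S A : Subgroup G} (h : DProp S A) {x a : G} (hx : x ∈ S) (ha : a ∈ A) :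
    x * a * x⁻¹ ∈ A :=
  (Subgroup.mem_normalizer_iff.1 (h.normalized hx) a).1 ha

theorem DProp.commute {S A B : Subgroup G} (hA : DProp S A) (hB : DProp S B) {a b : G} (ha : a ∈ A)
    (hb : b ∈ B) : Commute b a := by
  refine hA.quad b (hB.le hb) (fun v hv => ?_) a ha
  exact hB.comm b hb _ (mul_mem (hB.conj_mem (hA.le hv) hb) (inv_mem hb))

theorem dStar_spec (S : Subgroup G) : DProp S (dStar S) := by
  have hle : dStar S ≤ S := sSup_le fun A hA => hA.le
  have hcomm : ∀ A, DProp S A → ∀ a ∈ A, ∀ b ∈ dStar S, Commute a b := by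
    intro A hA a ha b hb
    have h1 : dStar S ≤ Subgroup.centralizer ({a} : Set G) := sSup_le fun B hB y hy =>
      Subgroup.mem_centralizer_singleton_iff.2 (hA.commute hB ha hy).eq
    exact (Subgroup.mem_centralizer_singleton_iff.1 (h1 hb)).symm
  refine ⟨hle, fun s hs => ?_, fun x hx y hy => ?_, fun x hx hq a ha => ?_⟩
  · rw [Subgroup.mem_normalizer_iff_map_conj_eq]
    show ((dStar S).map (MulAut.conj s).toMonoidHom) = dStar S
    have h1 : ∀ t ∈ S, (dStar S).map (MulAut.conj t).toMonoidHom ≤ dStar S := by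
      intro t ht
      rw [Subgroup.map_le_iff_le_comap]
      exact sSup_le fun A hA a ha => hA.le_dStar (hA.conj_mem ht ha)
    refine le_antisymm (h1 s hs) fun a ha => ?_
    refine ⟨s⁻¹ * a * s⁻¹⁻¹, h1 s⁻¹ (inv_mem hs) ⟨a, ha, rfl⟩, ?_⟩
    simp [mul_assoc]
  · have h1 : dStar S ≤ Subgroup.centralizer ({y} : Set G) := sSup_le fun A hA z hz =>
      Subgroup.mem_centralizer_singleton_iff.2 (hcomm A hA z hz y hy).eq
    exact Subgroup.mem_centralizer_singleton_iff.1 (h1 hx)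
  · have h1 : dStar S ≤ Subgroup.centralizer ({x} : Set G) := sSup_le fun A hA z hz =>
      Subgroup.mem_centralizer_singleton_iff.2
        (hA.quad x hx (fun v hv => hq v (hA.le_dStar hv)) z hz).symm.eq
    exact (Subgroup.mem_centralizer_singleton_iff.1 (h1 ha)).symm

theorem DProp.mono {S T A : Subgroup G} (h : DProp S A) (hAT : A ≤ T) (hTS : T ≤ S) : DProp T A :=
  ⟨hAT, hTS.trans h.normalized, h.comm, fun x hx => h.quad x (hTS hx)⟩

theorem dStar_le (S : Subgroup G) : dStar S ≤ S := (dStar_spec S).le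

theorem dprop_center (S : Subgroup G) : DProp S ((Subgroup.center S).map S.subtype) := by
  refine ⟨Subgroup.map_subtype_le _, fun s hs => ?_, ?_, ?_⟩
  · refine Subgroup.le_centralizer_iff.2 ?_ |> fun h => Subgroup.centralizer_le_normalizer _ (h hs)
    rintro _ ⟨z, hz, rfl⟩
    exact Subgroup.mem_centralizer_iff.2 fun t ht =>
      congrArg Subtype.val (Subgroup.mem_center_iff.1 hz ⟨t, ht⟩)
  · rintro _ ⟨z, hz, rfl⟩ _ ⟨w, -, rfl⟩
    exact (congrArg Subtype.val (Subgroup.mem_center_iff.1 hz w)).symm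
  · rintro x hx - _ ⟨z, hz, rfl⟩
    exact congrArg Subtype.val (Subgroup.mem_center_iff.1 hz ⟨x, hx⟩)

theorem dStar_ne_bot [Finite G] {p : ℕ} [Fact p.Prime] {S : Subgroup G} (hS : IsPGroup p S) (hne : S ≠ ⊥) :
    dStar S ≠ ⊥ := by
  intro h
  haveI : Nontrivial S := (Subgroup.nontrivial_iff_ne_bot S).2 hne
  haveI := hS.center_nontrivial
  refine (Subgroup.nontrivial_iff_ne_bot _).1 this ?_
  apply Subgroup.map_injective S.subtype_injective
  rw [Subgroup.map_bot, ← le_bot_iff, ← h]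
  exact (dprop_center S).le_dStar

theorem DProp.map {H : Type u} [Group H] {S A : Subgroup G} (h : DProp S A) (f : G →* H)
    (hf : Function.Injective f) : DProp (S.map f) (A.map f) := by
  refine ⟨Subgroup.map_mono h.le, (Subgroup.map_mono h.normalized).trans (Subgroup.le_normalizer_map f), ?_, ?_⟩
  · rintro _ ⟨x, hx, rfl⟩ _ ⟨y, hy, rfl⟩
    exact (h.comm x hx y hy).map f
  · rintro _ ⟨x, hx, rfl⟩ hq _ ⟨a, ha, rfl⟩
    refine (h.quad x hx (fun v hv => ?_) a ha).map f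
    refine hf ?_
    have h1 := (hq (f v) ⟨v, hv, rfl⟩).eq
    simpa only [map_mul, map_inv] using h1

theorem dStar_map {H : Type u} [Group H] (S : Subgroup G) (f : G →* H) (hf : Function.Injective f) :
    (dStar S).map f = dStar (S.map f) := by
  refine le_antisymm ((dStar_spec S).map f hf).le_dStar ?_
  have hback : DProp S ((dStar (S.map f)).comap f) := by
    have h := dStar_spec (S.map f)
    refine ⟨fun x hx => ?_, fun s hs => ?_, fun x hx y hy => ?_, fun x hx hq a ha => ?_⟩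
    · obtain ⟨y, hy, hyx⟩ := h.le hx
      rwa [← hf hyx]
    · refine Subgroup.le_normalizer_comap f ?_
      exact h.normalized ⟨s, hs, rfl⟩
    · exact hf (by simpa only [map_mul] using (h.comm _ hx _ hy).eq)
    · refine hf ?_
      have h1 := h.quad (f x) ⟨x, hx, rfl⟩ (fun v hv => ?_) (f a) ha
      · simpa only [map_mul] using h1.eq
      · obtain ⟨w, -, rfl⟩ := h.le hv
        have := (hq w hv).map f
        simpa only [map_mul, map_inv] using this
  intro y hy
  obtain ⟨x, -, rfl⟩ := dStar_le (S.map f) hy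
  exact ⟨x, hback.le_dStar hy, rfl⟩

theorem normalizer_le_normalizer_dStar (S : Subgroup G) :
    Subgroup.normalizer (S : Set G) ≤ Subgroup.normalizer (dStar S : Set G) := by
  intro g hg
  rw [Subgroup.mem_normalizer_iff_map_conj_eq] at hg ⊢
  exact (dStar_map S (MulAut.conj g).toMonoidHom (MulAut.conj g).injective).trans (congrArg dStar hg)

variable {p : ℕ} [Fact p.Prime] [Finite G]

/-- `D*(S)` is normal as soon as it lies in an abelian normal `p`-subgroup of a stable group. -/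
theorem dStar_normal (hst : AllStable p G) (S : Sylow p G) {E : Subgroup G} [hE : E.Normal] (hEp : IsPGroup p E)
    (hEc : ∀ x ∈ E, ∀ y ∈ E, Commute x y) (hle : dStar (S : Subgroup G) ≤ E) :
    (dStar (S : Subgroup G)).Normal := by
  set A := dStar (S : Subgroup G) with hA
  have hAd := dStar_spec (S : Subgroup G)
  set B := Subgroup.normalClosure (A : Set G) with hB
  haveI hBn : B.Normal := Subgroup.normalClosure_normal
  have hAB : A ≤ B := Subgroup.subset_normalClosure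
  have hBE : B ≤ E := Subgroup.normalClosure_le_normal hle
  have hNB : Subgroup.normalizer (B : Set G) = ⊤ := Subgroup.normalizer_eq_top_iff.2 hBn
  set C := Subgroup.centralizer (B : Set G) with hC
  set M := (pCore p (G ⧸ C)).comap (QuotientGroup.mk' C) with hM
  haveI : (pCore p (G ⧸ C)).Normal := pCore_normal p _
  haveI hMn : M.Normal := inferInstance
  have hCM : C ≤ M := fun c hc => by
    rw [hM, Subgroup.mem_comap, QuotientGroup.mk'_apply, (QuotientGroup.eq_one_iff c).2 hc]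
    exact one_mem _
  have hidx : ∃ k : ℕ, C.relIndex M = p ^ k := by
    obtain ⟨k, hk⟩ := IsPGroup.iff_card.1 (CfsgLib.LocalP.isPGroup_pCore : IsPGroup p (pCore p (G ⧸ C)))
    exact ⟨k, by rw [CfsgLib.Constrained.relIndex_eq_card_map,
      Subgroup.map_comap_eq_self_of_surjective (QuotientGroup.mk'_surjective C)]; exact hk⟩
  -- quadratic elements of `S` on `B` centralize `B`
  have key : ∀ x ∈ (S : Subgroup G), Quad B x → ∀ b ∈ B, Commute x b := by
    intro x hx hq b hb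
    obtain ⟨k, hk⟩ := S.2 ⟨x, hx⟩
    obtain ⟨R, hR, hxR, -, hRp⟩ := hst B (hEp.to_le hBE) x (hNB ▸ Subgroup.mem_top x)
      ⟨k, congrArg Subtype.val hk⟩ (commutator_bot_of_quad hq)
    haveI : R.Normal := Subgroup.normalizer_eq_top_iff.1 (top_le_iff.1 (hNB ▸ hR))
    have hxM : x ∈ M := by
      refine CfsgLib.LocalP.le_pCore (Subgroup.Normal.map inferInstance _ (QuotientGroup.mk'_surjective C)) ?_
        ⟨x, hxR, rfl⟩
      rintro ⟨_, r, hr, rfl⟩
      obtain ⟨l, hl⟩ := hRp r hr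
      refine ⟨l, Subtype.ext ?_⟩
      show QuotientGroup.mk' C r ^ p ^ l = 1
      rw [← map_pow, QuotientGroup.mk'_apply, QuotientGroup.eq_one_iff]
      exact hl
    have hcl : B ≤ Subgroup.centralizer ({x} : Set G) := by
      refine (Subgroup.closure_le _).2 ?_
      intro y hy
      obtain ⟨a, ha, hay⟩ := Group.mem_conjugatesOfSet_iff.1 hy
      obtain ⟨g, rfl⟩ := isConj_iff.1 hay
      obtain ⟨n, hn, m, hm, rfl⟩ := CfsgLib.GlaubermanZJ.exists_frattini S M g
      obtain ⟨c, hc, s, hs, hsM, rfl⟩ := CfsgLib.GlaubermanZJ.exists_mul_of_relIndex_pow S hCM hidx hm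
      have hfix : n * (c * s) * a * (n * (c * s))⁻¹ = n * (s * a * s⁻¹) * n⁻¹ := by
        have h1 : s * a * s⁻¹ ∈ B := hAB (hAd.conj_mem hs ha)
        have h2 := Subgroup.mem_centralizer_iff.1 hc _ h1
        calc n * (c * s) * a * (n * (c * s))⁻¹ = n * (c * (s * a * s⁻¹) * c⁻¹) * n⁻¹ := by group
          _ = n * ((s * a * s⁻¹) * c * c⁻¹) * n⁻¹ := by rw [h2]
          _ = _ := by group
      set x' := n⁻¹ * x * n with hx'
      have hx'S : x' ∈ (S : Subgroup G) :=
        ((Subgroup.mem_normalizer_iff''.1 hn x).1 ⟨hx, hxM⟩).1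
      have hq' : Quad B x' := by
        intro v hv
        have hv' : n * v * n⁻¹ ∈ B := hBn.conj_mem v hv n
        have h1 := (hq _ hv').map (MulAut.conj n⁻¹).toMonoidHom
        convert h1 using 1
        · show x' = n⁻¹ * x * n⁻¹⁻¹
          rw [inv_inv]
        · show _ = n⁻¹ * (n * v * n⁻¹ * x * (n * v * n⁻¹)⁻¹ * x⁻¹) * n⁻¹⁻¹
          rw [hx']
          group
      have h3 := (hAd.quad x' hx'S (fun v hv => hq' v (hAB hv)) _ (hAd.conj_mem hs ha)).map
        (MulAut.conj n).toMonoidHom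
      rw [hfix]
      refine Subgroup.mem_centralizer_singleton_iff.2 ?_
      have e : n * x' * n⁻¹ = x := by rw [hx']; group
      have h4 : Commute (n * x' * n⁻¹) (n * (s * a * s⁻¹) * n⁻¹) := h3
      rw [e] at h4
      exact h4.symm.eq
    exact (Subgroup.mem_centralizer_singleton_iff.1 (hcl hb) : Commute b x).symm
  have hBd : DProp (S : Subgroup G) B := by
    refine ⟨(hEp.to_le hBE).le_sylow_of_normal S, ?_, fun x hx y hy => hEc x (hBE hx) y (hBE hy), key⟩
    rw [hNB]; exact le_top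
  have heq : A = B := le_antisymm hAB hBd.le_dStar
  rw [heq]
  exact hBn

/-- Control of fusion by `N(D*(S))` in a group with stable `p`-subgroups. -/
theorem exists_normalizer_dStar (hst : AllStable p G) (S : Sylow p G) :
    ∀ (A : Subgroup G) (g : G), A ≤ (S : Subgroup G) → conjOf g A ≤ (S : Subgroup G) →
      ∃ n ∈ Subgroup.normalizer (dStar (S : Subgroup G) : Set G), ∀ a ∈ A, n * a * n⁻¹ = g * a * g⁻¹ := by
  induction hn : Nat.card G using Nat.strong_induction_on generalizing G with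
  | _ n IH =>
  set A₀ := dStar (S : Subgroup G) with hA₀
  have hA₀d := dStar_spec (S : Subgroup G)
  by_cases hN : Subgroup.normalizer (A₀ : Set G) = ⊤
  · exact fun A g _ _ => ⟨g, hN ▸ Subgroup.mem_top g, fun a _ => rfl⟩
  have hnormal : ∀ E : Subgroup G, Subgroup.normalizer (E : Set G) = ⊤ → IsPGroup p E →
      (∀ x ∈ E, ∀ y ∈ E, Commute x y) → A₀ ≤ E → False := by
    intro E hE hEp hEc hle
    haveI : E.Normal := Subgroup.normalizer_eq_top_iff.1 hE
    exact hN (Subgroup.normalizer_eq_top_iff.2 (dStar_normal hst S hEp hEc hle))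
  let Φ : Subgroup G → G → Prop := fun A g =>
    ∃ n ∈ Subgroup.normalizer (A₀ : Set G), ∀ a ∈ A, n * a * n⁻¹ = g * a * g⁻¹
  have hΦ : FusionProp (S : Subgroup G) Φ := by
    refine ⟨?_, fun A B g hAB _ _ ⟨n, hn, hna⟩ => ⟨n, hn, fun a ha => hna a (hAB ha)⟩⟩
    rintro A g h - - - ⟨n₁, hn₁, h₁⟩ ⟨n₂, hn₂, h₂⟩
    refine ⟨n₂ * n₁, mul_mem hn₂ hn₁, fun a ha => ?_⟩
    calc n₂ * n₁ * a * (n₂ * n₁)⁻¹ = n₂ * (n₁ * a * n₁⁻¹) * n₂⁻¹ := by group
      _ = n₂ * (g * a * g⁻¹) * n₂⁻¹ := by rw [h₁ a ha]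
      _ = h * (g * a * g⁻¹) * h⁻¹ := h₂ _ (conj_mem_conjOf ha)
      _ = h * g * a * (h * g)⁻¹ := by group
  show ∀ (A : Subgroup G) (g : G), A ≤ (S : Subgroup G) → conjOf g A ≤ (S : Subgroup G) → Φ A g
  refine fun A g hA hgA => CfsgLib.GlaubermanZJ.fusion_induction_card S hΦ
    {T | FullyNormalized p (S : Subgroup G) T} (fun T hT => ?_) ?_ A g hA hgA
  · obtain ⟨k, hk, -⟩ := exists_fullyNormalized_conj S hT (Q := ⊥) bot_le IsPGroup.of_bot
    exact ⟨_, hk, hk, k, rfl⟩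
  intro X _ hX big y hy
  have hXS : X ≤ (S : Subgroup G) := hX.1
  set NX := Subgroup.normalizer (X : Set G) with hNX
  set T := (S : Subgroup G) ⊓ NX with hT
  have hXT : X ≤ T := le_inf hXS Subgroup.le_normalizer
  by_cases hXeq : X = (S : Subgroup G)
  · subst hXeq
    exact ⟨y, normalizer_le_normalizer_dStar _ hy, fun a _ => rfl⟩
  have hXT' : Nat.card X < Nat.card T := card_lt_normalizer S hXS hXeq
  -- enlarging `X`
  have henl : ∀ (V : Subgroup G) (z : G), V ≤ (S : Subgroup G) → z ∈ NX →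
      z ∈ Subgroup.normalizer (V : Set G) → ¬ V ≤ X → Φ X z := by
    intro V z hV hz hzV hVX
    have hzXV : conjOf z (X ⊔ V) = X ⊔ V := by
      rw [conjOf, Subgroup.map_sup]
      exact congrArg₂ _ (mem_normalizer_iff_conjOf.1 hz) (mem_normalizer_iff_conjOf.1 hzV)
    have hlt : X < X ⊔ V := lt_of_le_of_ne le_sup_left fun h => hVX (h ▸ le_sup_right)
    exact hΦ.mono X (X ⊔ V) z le_sup_left (sup_le hXS hV) (hzXV.le.trans (sup_le hXS hV))
      (big _ z (Set.ncard_lt_ncard (SetLike.coe_strictMono hlt) (Set.toFinite _)) (sup_le hXS hV)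
        (hzXV.le.trans (sup_le hXS hV)))
  have hsyl := FullyNormalized.sylowIn hX
  set SX : Sylow p NX := (hsyl.2.1.comap_subtype (K := NX)).toSylow hsyl.2.2 with hSX
  have hSXc : (SX : Subgroup NX) = T.subgroupOf NX := IsPGroup.toSylow_coe _ _
  set CX := (Subgroup.centralizer (X : Set G)).subgroupOf NX with hCX
  haveI hCXn : CX.Normal := by
    refine ⟨fun z hz g => Subgroup.mem_centralizer_iff.2 fun a ha => ?_⟩
    have ha' : (g : G)⁻¹ * a * g ∈ X := (Subgroup.mem_normalizer_iff''.1 g.2 a).1 ha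
    have h1 := Subgroup.mem_centralizer_iff.1 (Subgroup.mem_subgroupOf.1 hz) _ ha'
    show a * ((g : G) * z * (g : G)⁻¹) = (g : G) * z * (g : G)⁻¹ * a
    calc a * ((g : G) * z * (g : G)⁻¹) = (g : G) * (((g : G)⁻¹ * a * g) * z) * (g : G)⁻¹ := by group
      _ = (g : G) * ((z : G) * ((g : G)⁻¹ * a * g)) * (g : G)⁻¹ := by rw [h1]
      _ = _ := by group
  haveI : (pCore p (NX ⧸ CX)).Normal := pCore_normal p _
  set M := (pCore p (NX ⧸ CX)).comap (QuotientGroup.mk' CX) with hM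
  haveI hMn : M.Normal := inferInstance
  have hCM : CX ≤ M := fun c hc => by
    rw [hM, Subgroup.mem_comap, QuotientGroup.mk'_apply, (QuotientGroup.eq_one_iff c).2 hc]
    exact one_mem _
  have hidx : ∃ k : ℕ, CX.relIndex M = p ^ k := by
    obtain ⟨k, hk⟩ := IsPGroup.iff_card.1 (CfsgLib.LocalP.isPGroup_pCore : IsPGroup p (pCore p (NX ⧸ CX)))
    exact ⟨k, by rw [CfsgLib.Constrained.relIndex_eq_card_map,
      Subgroup.map_comap_eq_self_of_surjective (QuotientGroup.mk'_surjective CX)]; exact hk⟩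
  by_cases hTM : ¬ T ⊓ M.map NX.subtype ≤ X
  · -- centric and radical
    obtain ⟨nn, hnn, m, hm, hymn⟩ := CfsgLib.GlaubermanZJ.exists_frattini SX M ⟨y, hy⟩
    obtain ⟨c, hc, s, hs, hsM, rfl⟩ := CfsgLib.GlaubermanZJ.exists_mul_of_relIndex_pow SX hCM hidx hm
    have he : ((SX : Subgroup NX) ⊓ M).map NX.subtype = T ⊓ M.map NX.subtype := by
      rw [hSXc, Subgroup.map_inf _ _ _ NX.subtype_injective, Subgroup.map_subgroupOf_eq_of_le inf_le_right]
    have hzN : ((nn * s : NX) : G) ∈ Subgroup.normalizer (T ⊓ M.map NX.subtype : Subgroup G) := by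
      have h1 : nn * s ∈ Subgroup.normalizer (((SX : Subgroup NX) ⊓ M : Subgroup NX) : Set NX) :=
        mul_mem hnn (Subgroup.le_normalizer ⟨hs, hsM⟩)
      have h2 := Subgroup.le_normalizer_map NX.subtype ⟨_, h1, rfl⟩
      rwa [he] at h2
    obtain ⟨n, hn, hna⟩ := henl _ _ (inf_le_left.trans inf_le_left) (nn * s).2 hzN hTM
    refine ⟨n, hn, fun a ha => (hna a ha).trans ?_⟩
    have hsa : (s : G) * a * (s : G)⁻¹ ∈ X := (Subgroup.mem_normalizer_iff.1 s.2 a).1 ha
    have h1 := Subgroup.mem_centralizer_iff.1 (Subgroup.mem_subgroupOf.1 hc) _ hsa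
    have hyeq : y = (nn : G) * ((c : G) * (s : G)) := congrArg Subtype.val hymn
    calc ((nn * s : NX) : G) * a * ((nn * s : NX) : G)⁻¹
        = (nn : G) * (((s : G) * a * (s : G)⁻¹) * c * (c : G)⁻¹) * (nn : G)⁻¹ := by
          rw [Subgroup.coe_mul]; group
      _ = (nn : G) * ((c : G) * ((s : G) * a * (s : G)⁻¹) * (c : G)⁻¹) * (nn : G)⁻¹ := by rw [h1]
      _ = _ := by rw [hyeq]; group
  push Not at hTM
  -- quadratic elements of `T` lie in `X`
  have hquadX : ∀ a ∈ T, Quad X a → a ∈ X := by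
    intro a haT hq
    obtain ⟨k, hk⟩ := (S.2.to_le (inf_le_left : T ≤ (S : Subgroup G))) ⟨a, haT⟩
    obtain ⟨R, hR, haR, hRN, hRp⟩ := hst X (S.2.to_le hXS) a haT.2 ⟨k, congrArg Subtype.val hk⟩
      (commutator_bot_of_quad hq)
    refine hTM ⟨haT, ⟨a, haT.2⟩, ?_, rfl⟩
    haveI : (R.subgroupOf NX).Normal := (Subgroup.normal_subgroupOf_iff_le_normalizer hRN).2 hR
    refine CfsgLib.LocalP.le_pCore (Subgroup.Normal.map inferInstance _ (QuotientGroup.mk'_surjective CX)) ?_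
      (Subgroup.mem_map_of_mem _ (show (⟨a, haT.2⟩ : NX) ∈ R.subgroupOf NX from haR))
    rintro ⟨_, r, hr, rfl⟩
    obtain ⟨l, hl⟩ := hRp r hr
    refine ⟨l, Subtype.ext ?_⟩
    show QuotientGroup.mk' CX r ^ p ^ l = 1
    rw [← map_pow, QuotientGroup.mk'_apply, QuotientGroup.eq_one_iff]
    exact hl
  have hquadA : ∀ (V : Subgroup G), (∀ u ∈ V, ∀ w ∈ V, Commute u w) → ∀ a ∈ V,
      (∀ v ∈ X, v * a * v⁻¹ ∈ V) → Quad X a :=
    fun V hV a ha hXV v hv => hV a ha _ (mul_mem (hXV v hv) (inv_mem ha))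
  have hA₀X : A₀ ≤ X := by
    by_contra hle
    haveI : Group.IsNilpotent ↥(X ⊔ A₀) := (S.2.to_le (sup_le hXS hA₀d.le)).isNilpotent
    have hlt : X < X ⊔ A₀ := lt_of_le_of_ne le_sup_left fun h => hle (h ▸ le_sup_right)
    obtain ⟨T₁, hXT₁, hT₁, hT₁N⟩ := CfsgLib.GlaubermanZJ.exists_gt_normalizing hlt
    refine hXT₁.not_ge fun z hz => ?_
    have hz' : z ∈ ((X ⊔ A₀ : Subgroup G) : Set G) := hT₁ hz
    rw [Subgroup.coe_mul_of_left_le_normalizer_right X A₀ (hXS.trans hA₀d.normalized)] at hz'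
    obtain ⟨x, hx, a, ha, rfl⟩ := hz'
    refine mul_mem hx (hquadX a ⟨hA₀d.le ha, ?_⟩ (hquadA A₀ hA₀d.comm a ha fun v hv => hA₀d.conj_mem (hXS hv) ha))
    have hxN : x ∈ NX := Subgroup.le_normalizer hx
    simpa using mul_mem (inv_mem hxN) (hT₁N hz)
  set E := dStar T with hE
  have hEd := dStar_spec T
  have hA₀E : A₀ ≤ E := (hA₀d.mono (hA₀X.trans hXT) inf_le_left).le_dStar
  have hEX : E ≤ X := fun a ha =>
    hquadX a (hEd.le ha) (hquadA E hEd.comm a ha fun v hv => hEd.conj_mem (hXT hv) ha)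
  -- `E` is normal in `N(X)`
  have hEN : NX ≤ Subgroup.normalizer (E : Set G) := by
    have hstX : AllStable p NX := hst.subgroup NX
    have hmapE : (dStar (SX : Subgroup NX)).map NX.subtype = E := by
      rw [dStar_map _ _ NX.subtype_injective, hSXc, Subgroup.map_subgroupOf_eq_of_le inf_le_right]
    set E' := dStar (SX : Subgroup NX) with hE'
    set B := Subgroup.normalClosure (E' : Set NX) with hB
    haveI : B.Normal := Subgroup.normalClosure_normal
    have hXn : (X.subgroupOf NX).Normal := Subgroup.normal_in_normalizer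
    have hE'X : E' ≤ X.subgroupOf NX := fun a ha => hEX (hmapE ▸ Subgroup.mem_map_of_mem NX.subtype ha)
    have hconjE : ∀ a ∈ E', ∀ g : NX, ∀ b ∈ E', Commute (g * b * g⁻¹) a := by
      intro a ha g b hb
      have hbX : g * b * g⁻¹ ∈ X.subgroupOf NX := hXn.conj_mem b (hE'X hb) g
      have hE'd := dStar_spec (SX : Subgroup NX)
      refine hE'd.quad _ (hSXc ▸ hXT hbX) (fun v hv => ?_) a ha
      have hgv : g⁻¹ * v * g ∈ X.subgroupOf NX := by simpa using hXn.conj_mem v (hE'X hv) g⁻¹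
      have h1 : (g⁻¹ * v * g) * b * (g⁻¹ * v * g)⁻¹ * b⁻¹ ∈ E' :=
        mul_mem (hE'd.conj_mem (hSXc ▸ hXT hgv) hb) (inv_mem hb)
      have h2 := (hE'd.comm b hb _ h1).map (MulAut.conj g).toMonoidHom
      convert h2 using 1
      · rfl
      · show _ = g * (g⁻¹ * v * g * b * (g⁻¹ * v * g)⁻¹ * b⁻¹) * g⁻¹
        group
    have hBX : B ≤ X.subgroupOf NX := Subgroup.normalClosure_le_normal hE'X
    have hBc : ∀ u ∈ B, ∀ w ∈ B, Commute u w := by
      have hgen : ∀ u ∈ Group.conjugatesOfSet (E' : Set NX), ∀ w ∈ Group.conjugatesOfSet (E' : Set NX),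
          u * w = w * u := by
        intro u hu w hw
        obtain ⟨a, ha, hau⟩ := Group.mem_conjugatesOfSet_iff.1 hu
        obtain ⟨g, rfl⟩ := isConj_iff.1 hau
        obtain ⟨b, hb, hbw⟩ := Group.mem_conjugatesOfSet_iff.1 hw
        obtain ⟨h, rfl⟩ := isConj_iff.1 hbw
        have h1 := (hconjE b hb (h⁻¹ * g) a ha).map (MulAut.conj h).toMonoidHom
        have h2 : Commute (h * (h⁻¹ * g * a * (h⁻¹ * g)⁻¹) * h⁻¹) (h * b * h⁻¹) := h1
        rw [show h * (h⁻¹ * g * a * (h⁻¹ * g)⁻¹) * h⁻¹ = g * a * g⁻¹ by group] at h2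
        exact h2.eq
      intro u hu w hw
      have h1 := Subgroup.isMulCommutative_closure hgen
      exact congrArg Subtype.val (h1.is_comm.comm (⟨u, hu⟩ : B) (⟨w, hw⟩ : B))
    have h3 := dStar_normal hstX SX ((S.2.to_le hXS).comap_subtype.to_le hBX) hBc Subgroup.subset_normalClosure
    intro z hz
    have h4 := Subgroup.le_normalizer_map NX.subtype ⟨⟨z, hz⟩,
      (Subgroup.normalizer_eq_top_iff.2 h3).symm ▸ Subgroup.mem_top _, rfl⟩
    rwa [hmapE] at h4
  -- descending to `D*(S)`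
  suffices hR : ∀ d (T' : Subgroup G), Nat.card G - Nat.card T' = d → A₀ ≤ T' → T' ≤ (S : Subgroup G) →
      Nat.card X ≤ Nat.card T' → ∀ (X' : Subgroup G) (g : G), g ∈ Subgroup.normalizer (dStar T' : Set G) →
        X' ≤ T' → conjOf g X' ≤ T' → Φ X' g from
    hR _ T rfl (hA₀X.trans hXT) inf_le_left hXT'.le X y (hEN hy) hXT
      ((mem_normalizer_iff_conjOf.1 hy).le.trans hXT)
  intro d
  induction d using Nat.strongRecOn with
  | ind d ih =>
  intro T' hd hAT' hT'S hXT'c X' g hg hX'T' hgX'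
  by_cases hT'eq : T' = (S : Subgroup G)
  · subst hT'eq
    exact ⟨g, hg, fun a _ => rfl⟩
  set D := dStar T' with hD
  have hDd := dStar_spec T'
  have hA₀D : A₀ ≤ D := (hA₀d.mono hAT' hT'S).le_dStar
  by_cases hDtop : Subgroup.normalizer (D : Set G) = ⊤
  · exact (hnormal D hDtop (S.2.to_le (hDd.le.trans hT'S)) hDd.comm hA₀D).elim
  set B := (S : Subgroup G) ⊓ Subgroup.normalizer (D : Set G) with hB
  have hNT'B : (S : Subgroup G) ⊓ Subgroup.normalizer (T' : Set G) ≤ B :=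
    inf_le_inf_left _ (normalizer_le_normalizer_dStar T')
  have hT'B : T' ≤ B := (le_inf hT'S Subgroup.le_normalizer).trans hNT'B
  have hcard : Nat.card T' < Nat.card B :=
    lt_of_lt_of_le (card_lt_normalizer S hT'S hT'eq) (Subgroup.card_le_of_le hNT'B)
  obtain ⟨k, hk, hkB⟩ := exists_fullyNormalized_conj S (hDd.le.trans hT'S) (Q := B) inf_le_right (isPGroup_inf _)
  set U := conjOf k D with hU
  set L := Subgroup.normalizer (U : Set G) with hL
  have hLtop : L ≠ ⊤ := by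
    intro htop
    apply hDtop
    have hUn : U.Normal := Subgroup.normalizer_eq_top_iff.1 htop
    rw [Subgroup.normalizer_eq_top_iff]
    refine ⟨fun z hz w => ?_⟩
    have h1 : k * z * k⁻¹ ∈ U := conj_mem_conjOf hz
    have h2 := hUn.conj_mem _ h1 (k * w * k⁻¹)
    obtain ⟨z', hz', he⟩ := h2
    have he' : k * z' * k⁻¹ = k * w * k⁻¹ * (k * z * k⁻¹) * (k * w * k⁻¹)⁻¹ := he
    have : z' = w * z * w⁻¹ := by
      calc z' = k⁻¹ * (k * z' * k⁻¹) * k := by group
        _ = _ := by rw [he']; group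
    exact this ▸ hz'
  obtain ⟨n₁, hn₁, hn₁B⟩ := big B k (hXT'c.trans_lt hcard) inf_le_left hkB
  have hfixA : ∀ a ∈ A₀, k * a * k⁻¹ ∈ A₀ := fun a ha => by
    rw [← hn₁B a (hT'B (hAT' ha))]
    exact (Subgroup.mem_normalizer_iff.1 hn₁ a).1 ha
  have hkBL : conjOf k B ≤ (S : Subgroup G) ⊓ L := by
    refine le_inf hkB ?_
    rw [hL, hU, conjOf_le_iff]
    intro b hb
    exact Subgroup.le_normalizer_map (MulAut.conj k).toMonoidHom ⟨b, hb.2, rfl⟩
  set h := k * g * k⁻¹ with hh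
  have hhL : h ∈ L := Subgroup.le_normalizer_map (MulAut.conj k).toMonoidHom ⟨g, hg, rfl⟩
  have hsylL := FullyNormalized.sylowIn hk
  set SL : Sylow p L := (hsylL.2.1.comap_subtype (K := L)).toSylow hsylL.2.2 with hSL
  have hSLc : (SL : Subgroup L) = ((S : Subgroup G) ⊓ L).subgroupOf L := IsPGroup.toSylow_coe _ _
  have hlt : Nat.card L < n := by
    rw [← hn]
    exact lt_of_le_of_ne (Subgroup.card_le_card_group L) fun he => hLtop (Subgroup.eq_top_of_card_eq L he)
  obtain ⟨m, hm, hma⟩ := IH _ hlt (hst.subgroup L) SL rfl ((conjOf k X').subgroupOf L) ⟨h, hhL⟩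
    (hSLc ▸ Subgroup.comap_mono ((conjOf_mono (hX'T'.trans hT'B)).trans hkBL)) (by
      rw [hSLc]
      refine conjOf_le_iff.2 fun w hw => ?_
      obtain ⟨x, hx, hxw⟩ := (hw : (w : G) ∈ conjOf k X')
      have hxw' : k * x * k⁻¹ = (w : G) := hxw
      show h * (w : G) * h⁻¹ ∈ (S : Subgroup G) ⊓ L
      rw [← hxw', hh, show k * g * k⁻¹ * (k * x * k⁻¹) * (k * g * k⁻¹)⁻¹ = k * (g * x * g⁻¹) * k⁻¹ by group]
      exact hkBL (conj_mem_conjOf (hT'B (hgX' (conj_mem_conjOf hx)))))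
  have hmN : (m : G) ∈ Subgroup.normalizer (dStar ((S : Subgroup G) ⊓ L) : Set G) := by
    have h1 := Subgroup.le_normalizer_map L.subtype ⟨m, hm, rfl⟩
    rwa [dStar_map _ _ L.subtype_injective, hSLc, Subgroup.map_subgroupOf_eq_of_le inf_le_right] at h1
  have hA₀L : A₀ ≤ (S : Subgroup G) ⊓ L := by
    intro a ha
    have h1 : n₁⁻¹ * a * n₁ ∈ A₀ := (Subgroup.mem_normalizer_iff''.1 hn₁ a).1 ha
    have h2 := hn₁B _ (hT'B (hAT' h1))
    rw [show n₁ * (n₁⁻¹ * a * n₁) * n₁⁻¹ = a by group] at h2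
    rw [h2]
    exact hkBL (conj_mem_conjOf (hT'B (hAT' h1)))
  have hcardL : Nat.card T' < Nat.card ↥((S : Subgroup G) ⊓ L) :=
    hcard.trans_le ((card_conjOf k B).symm.le.trans (Subgroup.card_le_of_le hkBL))
  have hact : ∀ x ∈ X', (m : G) * (k * x * k⁻¹) * (m : G)⁻¹ = k * (g * x * g⁻¹) * k⁻¹ := fun x hx => by
    have h1 := congrArg Subtype.val (hma ⟨k * x * k⁻¹, (hkBL (conj_mem_conjOf (hT'B (hX'T' hx)))).2⟩
      (conj_mem_conjOf hx))
    refine h1.trans ?_
    show h * (k * x * k⁻¹) * h⁻¹ = _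
    rw [hh]; group
  obtain ⟨n₂, hn₂, hn₂a⟩ := ih _ (by have := Subgroup.card_le_card_group ((S : Subgroup G) ⊓ L); omega)
    ((S : Subgroup G) ⊓ L) rfl hA₀L inf_le_left (hXT'c.trans hcardL.le) (conjOf k X') (m : G) hmN
    ((conjOf_mono (hX'T'.trans hT'B)).trans hkBL) (by
      refine conjOf_le_iff.2 ?_
      rintro _ ⟨x, hx, rfl⟩
      show (m : G) * (k * x * k⁻¹) * (m : G)⁻¹ ∈ _
      rw [hact x hx]
      exact hkBL (conj_mem_conjOf (hT'B (hgX' (conj_mem_conjOf hx)))))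
  refine ⟨n₁⁻¹ * n₂ * n₁, mul_mem (mul_mem (inv_mem hn₁) hn₂) hn₁, fun x hx => ?_⟩
  have hgB : g * x * g⁻¹ ∈ B := hT'B (hgX' (conj_mem_conjOf hx))
  calc n₁⁻¹ * n₂ * n₁ * x * (n₁⁻¹ * n₂ * n₁)⁻¹ = n₁⁻¹ * (n₂ * (n₁ * x * n₁⁻¹) * n₂⁻¹) * n₁ := by group
    _ = n₁⁻¹ * (k * (g * x * g⁻¹) * k⁻¹) * n₁ := by
      rw [hn₁B x (hT'B (hX'T' hx)), hn₂a _ (conj_mem_conjOf hx), hact x hx]
    _ = n₁⁻¹ * (n₁ * (g * x * g⁻¹) * n₁⁻¹) * n₁ := by rw [hn₁B _ hgB]
    _ = g * x * g⁻¹ := by group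

end CfsgLib.Fus.PStab
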