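import Cfsg.Agent.Fus.PStable.DStar
import Cfsg.Agent.Fus.NormalSeries
import Cfsg.Agent.Fus.Group
import Cfsg.Agent.Fus.Centric

/-!
A `p`-stable group fusion system, `p` odd, has `D*(S)` as a normal subgroup and is constrained.
-/

set_option autoImplicit false

open Cfsg Cfsg.FusionSystem

namespace CfsgLib.Fus.PStab

universe u

variable {G : Type u} [Group G] [Finite G] {p : ℕ} [Fact p.Prime]

theorem allStable_of_isNormalizerPStable (h : IsNormalizerPStable p G) : AllStable p G := by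
  intro P hP
  refine quadStable_of_pairs P fun a ha _ hq g hg z hz => ?_
  set N := Subgroup.normalizer (P : Set G) with hN
  set C := (Subgroup.centralizer (P : Set G)).subgroupOf N with hC
  have h1 := h P hP a ha (commutator_bot_of_quad hq)
  haveI : (pCore p (N ⧸ C)).Normal := pCore_normal p _
  set R := ((pCore p (N ⧸ C)).comap (QuotientGroup.mk' C)).map N.subtype with hR
  have haR : a ∈ R := ⟨⟨a, ha⟩, h1, rfl⟩
  have hcn : ((pCore p (N ⧸ C)).comap (QuotientGroup.mk' C)).Normal := inferInstance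
  have hgR : g * a * g⁻¹ ∈ R :=
    ⟨⟨g, hg⟩ * ⟨a, ha⟩ * (⟨g, hg⟩ : N)⁻¹, hcn.conj_mem ⟨a, ha⟩ h1 ⟨g, hg⟩, rfl⟩
  have hle : Subgroup.closure ({a, g * a * g⁻¹} : Set G) ≤ R := by
    rw [Subgroup.closure_le]
    rintro w (rfl | rfl)
    · exact haR
    · exact hgR
  obtain ⟨r, hr, rfl⟩ := hle hz
  obtain ⟨k, hk⟩ := (CfsgLib.LocalP.isPGroup_pCore : IsPGroup p (pCore p (N ⧸ C))) ⟨_, hr⟩
  have h2 : QuotientGroup.mk' C r ^ p ^ k = 1 := congrArg Subtype.val hk
  rw [← map_pow, QuotientGroup.mk'_apply, QuotientGroup.eq_one_iff] at h2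
  exact ⟨k, h2⟩

/-- `D*(S)` is normal in the fusion system of a stable group. -/
theorem isNormal_dStar (hst : AllStable p G) (S : Sylow p G) :
    (Cfsg.groupFusionSystem (S : Subgroup G)).IsNormal (dStar (S : Subgroup G)) := by
  refine ⟨dStar_le _, fun Q φ hφ => ?_⟩
  obtain ⟨hQS, hφS, g, hg⟩ := hφ
  set A := dStar (S : Subgroup G) with hA
  obtain ⟨n, hn, hna⟩ := exists_normalizer_dStar hst S Q g hQS (CfsgLib.ConjFunctor.conjOf_le_iff.2 fun x hx => by
    have := hφS ⟨x, hx⟩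
    rwa [hg] at this)
  have hin : Q ⊔ A ≤ (S : Subgroup G).comap (MulAut.conj n).toMonoidHom := by
    refine sup_le (fun x hx => ?_) fun a ha => ?_
    · show n * x * n⁻¹ ∈ (S : Subgroup G)
      rw [hna x hx]
      have := hφS ⟨x, hx⟩
      rwa [hg] at this
    · show n * a * n⁻¹ ∈ (S : Subgroup G)
      exact dStar_le _ ((Subgroup.mem_normalizer_iff.1 hn a).1 ha)
  refine ⟨Cfsg.conjHom (Q ⊔ A) n, ⟨sup_le hQS (dStar_le _), fun x => hin x.2, n, fun x => rfl⟩,
    fun x => ?_, ?_⟩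
  · show n * (x : G) * n⁻¹ = φ x
    rw [hna x x.2, hg]
  · refine le_antisymm ?_ fun a ha => ?_
    · rintro _ ⟨x, hx, rfl⟩
      exact (Subgroup.mem_normalizer_iff.1 hn _).1 hx
    · refine ⟨⟨n⁻¹ * a * n, (le_sup_right : A ≤ Q ⊔ A) ((Subgroup.mem_normalizer_iff''.1 hn a).1 ha)⟩,
        (Subgroup.mem_normalizer_iff''.1 hn a).1 ha, ?_⟩
      show n * (n⁻¹ * a * n) * n⁻¹ = a
      group

/-- A stable group has a constrained fusion system, for odd `p`. -/
theorem isConstrained_of_allStable (hp : p ≠ 2) (hst : AllStable p G) (S : Sylow p G) :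
    (Cfsg.groupFusionSystem (S : Subgroup G)).IsConstrained p := by
  have hS : IsPGroup p (S : Subgroup G) := S.isPGroup'
  have hF : (Cfsg.groupFusionSystem (S : Subgroup G)).IsSaturated p := isSaturated_group S
  set F := Cfsg.groupFusionSystem (S : Subgroup G) with hFdef
  have hUn : F.IsNormal F.core := CfsgLib.Fusion.Alperin.isNormal_core F
  set U := F.core with hUdef
  have hsc := CfsgLib.Fusion.Alperin.stronglyClosed_of_isNormal hUn
  have hUS : U ≤ (S : Subgroup G) := hUn.1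
  have hSN : (S : Subgroup G) ≤ Subgroup.normalizer (U : Set G) :=
    CfsgLib.Fusion.Alperin.le_normalizer_of_stronglyClosed hsc
  refine ⟨hF, U, hUn, hUS, fun Q hQ => ?_⟩
  obtain ⟨φ, hφ, rfl⟩ := hQ
  have hφU : φ.range = U := by
    refine Subgroup.eq_of_le_of_card_ge (by rintro _ ⟨x, rfl⟩; exact hsc.2 U le_rfl φ hφ x) ?_
    rw [← Nat.card_congr (MonoidHom.ofInjective (F.injective_of_mem hφ)).toEquiv]
  rw [hφU]
  by_contra hnc
  -- the centralizer of the core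
  set H := Subgroup.centralizer (U : Set G) with hH
  set SH := (S : Subgroup G) ⊓ H with hSH
  set NU := Subgroup.normalizer (U : Set G) with hNU
  have hHN : H ≤ NU := Subgroup.centralizer_le_normalizer _
  haveI hHn : (H.subgroupOf NU).Normal := by
    refine ⟨fun z hz g => Subgroup.mem_centralizer_iff.2 fun a ha => ?_⟩
    have ha' : (g : G)⁻¹ * a * g ∈ U := (Subgroup.mem_normalizer_iff''.1 g.2 a).1 ha
    have h1 := Subgroup.mem_centralizer_iff.1 (Subgroup.mem_subgroupOf.1 hz) _ ha'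
    show a * ((g : G) * z * (g : G)⁻¹) = (g : G) * z * (g : G)⁻¹ * a
    calc a * ((g : G) * z * (g : G)⁻¹) = (g : G) * (((g : G)⁻¹ * a * g) * z) * (g : G)⁻¹ := by group
      _ = (g : G) * ((z : G) * ((g : G)⁻¹ * a * g)) * (g : G)⁻¹ := by rw [h1]
      _ = _ := by group
  let SN : Sylow p NU := S.subtype hSN
  obtain ⟨R, hR⟩ := CfsgLib.GlaubermanZJ.exists_sylow_map_eq_inf SN (H.subgroupOf NU)
  have hRmem : ∀ x : G, x ∈ SH → ∃ r ∈ (R : Subgroup (H.subgroupOf NU)), ((r : NU) : G) = x := by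
    intro x hx
    have h1 : (⟨x, hHN hx.2⟩ : NU) ∈ (SN : Subgroup NU) ⊓ H.subgroupOf NU := ⟨hx.1, hx.2⟩
    rw [← hR] at h1
    obtain ⟨r, hr, hrx⟩ := h1
    exact ⟨r, hr, congrArg Subtype.val hrx⟩
  let e : (H.subgroupOf NU) ≃* H := Subgroup.subgroupOfEquivOfLe hHN
  let RH : Sylow p H := R.mapSurjective (f := e.toMonoidHom) e.surjective
  have hRH : (RH : Subgroup H) = SH.subgroupOf H := by
    ext x
    constructor
    · rintro ⟨r, hr, rfl⟩
      have h1 : (r : NU) ∈ (SN : Subgroup NU) ⊓ H.subgroupOf NU := hR ▸ Subgroup.mem_map_of_mem _ hr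
      exact ⟨h1.1, h1.2⟩
    · intro hx
      obtain ⟨r, hr, hrx⟩ := hRmem x hx
      exact ⟨r, hr, Subtype.ext hrx⟩
  -- pass to the quotient by the central part
  set Z := (U.subgroupOf H) with hZ
  have hZc : Z ≤ Subgroup.center H := fun z hz => Subgroup.mem_center_iff.2 fun h => Subtype.ext
    (Subgroup.mem_centralizer_iff.1 h.2 (z : G) hz).symm
  haveI hZn : Z.Normal := ⟨fun z hz g => by
    rw [show g * z * g⁻¹ = z by rw [Subgroup.mem_center_iff.1 (hZc hz) g, mul_inv_cancel_right]]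
    exact hz⟩
  set q := QuotientGroup.mk' Z with hq
  have hqs : Function.Surjective q := QuotientGroup.mk'_surjective Z
  have hZp : IsPGroup p q.ker := by
    rw [QuotientGroup.ker_mk']
    exact (hS.to_le hUS).comap_of_injective H.subtype H.subtype_injective
  have hstQ : AllStable p (H ⧸ Z) :=
    AllStable.of_central hp (hst.subgroup H) q hqs hZp (by rwa [QuotientGroup.ker_mk'])
  set SB := RH.mapSurjective hqs with hSB
  have hSBc : (SB : Subgroup (H ⧸ Z)) = (SH.subgroupOf H).map q := by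
    rw [hSB, Sylow.coe_mapSurjective, hRH]
  have hSBne : (SB : Subgroup (H ⧸ Z)) ≠ ⊥ := by
    intro h
    refine hnc fun x hx => ?_
    have h1 : q ⟨x, hx.2⟩ ∈ (SH.subgroupOf H).map q := Subgroup.mem_map_of_mem q ⟨hx.1, hx.2⟩
    rw [← hSBc, h, Subgroup.mem_bot, hq, QuotientGroup.mk'_apply, QuotientGroup.eq_one_iff] at h1
    exact h1
  set D := dStar (SB : Subgroup (H ⧸ Z)) with hD
  have hDd := dStar_spec (SB : Subgroup (H ⧸ Z))
  set W := ((D.comap q).map H.subtype) with hW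
  have hWH : W ≤ H := Subgroup.map_subtype_le _
  have hqW : ∀ x (hx : x ∈ H), x ∈ W ↔ q ⟨x, hx⟩ ∈ D := fun x hx => by
    constructor
    · rintro ⟨y, hy, rfl⟩; exact hy
    · exact fun h => ⟨_, h, rfl⟩
  have hWS : W ≤ SH := by
    rintro _ ⟨x, hx, rfl⟩
    have h1 : q x ∈ (SB : Subgroup (H ⧸ Z)) := dStar_le _ hx
    rw [hSBc] at h1
    obtain ⟨s, hs, hsx⟩ := h1
    rw [hq, QuotientGroup.mk'_apply, QuotientGroup.mk'_apply, QuotientGroup.eq] at hsx
    refine ⟨?_, x.2⟩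
    have e : (x : G) = (s : G) * ((s⁻¹ * x : H) : G) := by
      rw [Subgroup.coe_mul, Subgroup.coe_inv, mul_inv_cancel_left]
    show (x : G) ∈ (S : Subgroup G)
    rw [e]
    exact mul_mem hs.1 (hUS hsx)
  -- both terms of the series are strongly closed
  have hext : ∀ (x : G), x ∈ SH → ∀ (Q : Subgroup G) (φ : Q →* G), φ ∈ F.Hom Q → ∀ hxQ : x ∈ Q,
      ∃ g ∈ NU, g * x * g⁻¹ = φ ⟨x, hxQ⟩ := by
    intro x hx Q φ hφ hxQ
    obtain ⟨ψ, hψ, hext, hmap⟩ := hUn.2 Q φ hφ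
    obtain ⟨-, -, g, hg⟩ := hψ
    refine ⟨g, ?_, ?_⟩
    · rw [hNU, Subgroup.mem_normalizer_iff_map_conj_eq]
      refine Subgroup.eq_of_le_of_card_ge ?_ (Subgroup.card_map_of_injective (MulAut.conj g).injective).ge
      rintro _ ⟨u, hu, rfl⟩
      show g * u * g⁻¹ ∈ U
      have h1 : ψ ⟨u, (le_sup_right : U ≤ Q ⊔ U) hu⟩ ∈ (U.subgroupOf (Q ⊔ U)).map ψ := Subgroup.mem_map_of_mem ψ hu
      rw [hmap, hg] at h1
      exact h1
    · rw [← hext ⟨x, hxQ⟩]
      exact (hg (Subgroup.inclusion le_sup_left ⟨x, hxQ⟩)).symm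
  have hL1 : F.StronglyClosed (U ⊓ H) := by
    refine ⟨inf_le_left.trans hUS, fun Q hQ φ hφ x => ?_⟩
    obtain ⟨g, hg, hgx⟩ := hext x ⟨hUS (hQ x.2).1, (hQ x.2).2⟩ Q φ hφ x.2
    rw [← show g * (x : G) * g⁻¹ = φ x from hgx]
    refine ⟨(Subgroup.mem_normalizer_iff.1 hg _).1 (hQ x.2).1, ?_⟩
    exact (hHn.conj_mem ⟨x, hHN (hQ x.2).2⟩ (hQ x.2).2 ⟨g, hg⟩ : _)
  have hWsc : F.StronglyClosed W := by
    refine ⟨hWS.trans inf_le_left, fun Q hQ φ hφ x => ?_⟩
    obtain ⟨g, hg, hgx⟩ := hext x (hWS (hQ x.2)) Q φ hφ x.2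
    obtain ⟨n, hn, c, hc, hgnc⟩ := CfsgLib.GlaubermanZJ.exists_frattini SN (H.subgroupOf NU) ⟨g, hg⟩
    have hgeq : g = (n : G) * (c : G) := congrArg Subtype.val hgnc
    set c' : G := (n : G) * c * (n : G)⁻¹ with hc'
    have hc'H : c' ∈ H := hHn.conj_mem c hc n
    have hg' : g = c' * n := by rw [hgeq, hc']; group
    have hnSH : ∀ y ∈ SH, (n : G) * y * (n : G)⁻¹ ∈ SH := by
      intro y hy
      exact ((Subgroup.mem_normalizer_iff.1 hn ⟨y, hHN hy.2⟩).1 ⟨hy.1, hy.2⟩ : _)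
    -- `n` fixes `W`
    have hnW : (n : G) * (x : G) * (n : G)⁻¹ ∈ W := by
      let α : H →* H :=
        ((MulAut.conj (n : G)).toMonoidHom.comp H.subtype).codRestrict H fun h =>
          (hHn.conj_mem ⟨h, hHN h.2⟩ h.2 n : _)
      have hαZ : Z ≤ Z.comap α := fun z hz => (Subgroup.mem_normalizer_iff.1 n.2 (z : G)).1 hz
      let αb : H ⧸ Z →* H ⧸ Z := QuotientGroup.map Z Z α hαZ
      have hαinj : Function.Injective αb := by
        rw [← MonoidHom.ker_eq_bot_iff, Subgroup.eq_bot_iff_forall]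
        intro y hy
        obtain ⟨y, rfl⟩ := QuotientGroup.mk'_surjective Z y
        exact (QuotientGroup.eq_one_iff y).2
          ((Subgroup.mem_normalizer_iff.1 n.2 (y : G)).2 ((QuotientGroup.eq_one_iff (α y)).1 hy))
      have hmapS : (SB : Subgroup (H ⧸ Z)).map αb = SB := by
        refine Subgroup.eq_of_le_of_card_ge ?_ (Subgroup.card_map_of_injective hαinj).ge
        rw [hSBc]
        rintro _ ⟨_, ⟨y, hy, rfl⟩, rfl⟩
        exact ⟨α y, hnSH y hy, rfl⟩
      have h1 : q (α ⟨x, hWH (hQ x.2)⟩) ∈ D.map αb :=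
        ⟨q ⟨x, hWH (hQ x.2)⟩, (hqW _ _).1 (hQ x.2), rfl⟩
      rw [hD, dStar_map _ _ hαinj, hmapS] at h1
      exact ⟨_, h1, rfl⟩
    set y := (n : G) * (x : G) * (n : G)⁻¹ with hy
    have hyH : y ∈ H := hWH hnW
    have himg : g * (x : G) * g⁻¹ ∈ SH := by
      refine ⟨?_, ?_⟩
      · rw [hgx]; exact hφ.2.1 x
      · exact (hHn.conj_mem ⟨x, hHN (hWH (hQ x.2))⟩ (hWH (hQ x.2)) ⟨g, hg⟩ : _)
    have hgy : g * (x : G) * g⁻¹ = c' * y * c'⁻¹ := by rw [hg', hy]; group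
    obtain ⟨m, hm, hma⟩ := exists_normalizer_dStar hstQ SB (Subgroup.zpowers (q ⟨y, hyH⟩)) (q ⟨c', hc'H⟩)
      (Subgroup.zpowers_le.2 (dStar_le _ ((hqW _ _).1 hnW))) (by
        rw [CfsgLib.ConjFunctor.conjOf_le_iff]
        intro w hw
        obtain ⟨i, rfl⟩ := Subgroup.mem_zpowers_iff.1 hw
        rw [← conj_zpow]
        refine zpow_mem ?_ i
        rw [hSBc, ← map_inv, ← map_mul, ← map_mul]
        refine Subgroup.mem_map_of_mem q ?_
        show c' * y * c'⁻¹ ∈ SH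
        rw [← hgy]; exact himg)
    have hD' : q (⟨c', hc'H⟩ * ⟨y, hyH⟩ * (⟨c', hc'H⟩ : H)⁻¹) ∈ D := by
      rw [map_mul, map_mul, map_inv, ← hma _ (Subgroup.mem_zpowers _)]
      exact (Subgroup.mem_normalizer_iff.1 hm _).1 ((hqW _ _).1 hnW)
    rw [← show g * (x : G) * g⁻¹ = φ x from hgx, hgy]
    exact ⟨_, hD', rfl⟩
  have hWn : F.IsNormal W := by
    refine CfsgLib.Fusion.Alperin.isNormal_of_series hS hF hWsc 2
      (fun i => if i = 0 then ⊥ else if i = 1 then U ⊓ H else W) rfl rfl ?_ ?_ ?_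
    · refine monotone_nat_of_le_succ fun i => ?_
      rcases i with _ | _ | i
      · exact bot_le
      · show U ⊓ H ≤ W
        intro x hx
        rw [hqW x hx.2, hq, QuotientGroup.mk'_apply, (QuotientGroup.eq_one_iff _).2 (show (⟨x, hx.2⟩ : H) ∈ Z from hx.1)]
        exact one_mem _
      · exact le_rfl
    · intro i hi
      rcases i with _ | _ | i
      · exact stronglyClosed_bot F
      · exact hL1
      · exact hWsc
    · intro i hi g hg x hx
      rcases i with _ | _ | i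
      · show x⁻¹ * (g * x * g⁻¹) ∈ (⊥ : Subgroup G)
        have hx' : x ∈ U ⊓ H := hx
        rw [Subgroup.mem_bot, ← Subgroup.mem_centralizer_iff.1 (hWH hg) x hx'.1, mul_inv_cancel_right,
          inv_mul_cancel]
      · show x⁻¹ * (g * x * g⁻¹) ∈ U ⊓ H
        have hx' : x ∈ W := hx
        refine ⟨?_, mul_mem (Subgroup.inv_mem H (hWH hx')) (mul_mem (mul_mem (hWH hg) (hWH hx')) (Subgroup.inv_mem H (hWH hg)))⟩
        have h1 : q ((⟨x, hWH hx'⟩ : H)⁻¹ * (⟨g, hWH hg⟩ * ⟨x, hWH hx'⟩ * (⟨g, hWH hg⟩ : H)⁻¹)) = 1 := by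
          rw [map_mul, map_mul, map_mul, map_inv, map_inv,
            (hDd.comm _ ((hqW _ _).1 hg) _ ((hqW _ _).1 hx')).eq, mul_inv_cancel_right, inv_mul_cancel]
        rw [hq, QuotientGroup.mk'_apply, QuotientGroup.eq_one_iff] at h1
        exact h1
      · omega
  refine dStar_ne_bot SB.isPGroup' hSBne (le_bot_iff.1 fun d hd => ?_)
  obtain ⟨x, rfl⟩ := hqs d
  have hxW : (x : G) ∈ W := ⟨x, hd, rfl⟩
  exact Subgroup.mem_bot.2 ((QuotientGroup.eq_one_iff x).2 (CfsgLib.Fusion.Alperin.le_core hWn hxW))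

end CfsgLib.Fus.PStab
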