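import Cfsg.Agent.Fus.PStable.CentralAction
import Cfsg.Agent.Eq.Def_LocalEven

/-!
Stability of all `p`-subgroups passes to subgroups and, for odd `p`, to central quotients by `p`-groups.
-/

set_option autoImplicit false

open Cfsg
open scoped commutatorElement

namespace CfsgLib.Fus.PStab

universe u

open CfsgLib.GlaubermanZJ (QuadStable exists_pElement_mk_eq closure_pair_eq_top)

variable {p : ℕ} {G : Type u} [Group G]

/-- All `p`-subgroups are stable. -/
def AllStable (p : ℕ) (G : Type u) [Group G] : Prop := ∀ P : Subgroup G, IsPGroup p P → QuadStable p P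

/-- Quadratic action, elementwise. -/
def Quad (P : Subgroup G) (a : G) : Prop := ∀ v ∈ P, Commute a (v * a * v⁻¹ * a⁻¹)

theorem commutator_bot_of_quad {P : Subgroup G} {a : G} (h : Quad P a) :
    ⁅⁅P, Subgroup.zpowers a⁆, Subgroup.zpowers a⁆ = ⊥ := by
  have hle : ⁅P, Subgroup.zpowers a⁆ ≤ Subgroup.centralizer ({a} : Set G) := by
    refine Subgroup.commutator_le.2 fun v hv w hw => ?_
    obtain ⟨i, rfl⟩ := Subgroup.mem_zpowers_iff.1 hw
    have ha : a ∈ Subgroup.centralizer ({a} : Set G) := Subgroup.mem_centralizer_singleton_iff.2 rfl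
    have h1 : v * a * v⁻¹ ∈ Subgroup.centralizer ({a} : Set G) := by
      have h2 : v * a * v⁻¹ * a⁻¹ ∈ Subgroup.centralizer ({a} : Set G) :=
        Subgroup.mem_centralizer_singleton_iff.2 (h v hv).eq.symm
      simpa using mul_mem h2 ha
    rw [commutatorElement_def, show v * a ^ i * v⁻¹ = (v * a * v⁻¹) ^ i from (conj_zpow).symm]
    exact mul_mem (zpow_mem h1 i) (inv_mem (zpow_mem ha i))
  rw [Subgroup.commutator_eq_bot_iff_le_centralizer]
  refine hle.trans fun x hx => Subgroup.mem_centralizer_iff.2 fun w hw => ?_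
  obtain ⟨i, rfl⟩ := Subgroup.mem_zpowers_iff.1 hw
  exact ((show Commute x a from (Subgroup.mem_centralizer_singleton_iff.1 hx)).zpow_right i).eq.symm

theorem quad_of_commutator_bot {P : Subgroup G} {a : G}
    (h : ⁅⁅P, Subgroup.zpowers a⁆, Subgroup.zpowers a⁆ = ⊥) : Quad P a := by
  intro v hv
  have h1 := Subgroup.commutator_mem_commutator
    (Subgroup.commutator_mem_commutator hv (Subgroup.mem_zpowers a)) (Subgroup.mem_zpowers a)
  rw [h, Subgroup.mem_bot, commutatorElement_eq_one_iff_mul_comm] at h1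
  exact h1.symm

theorem AllStable.of_injective {H : Type u} [Group H] (h : AllStable p G) (f : H →* G) (hf : Function.Injective f) :
    AllStable p H := by
  intro P hP a ha ⟨k, hk⟩ hq
  have hN : ∀ x : H, x ∈ Subgroup.normalizer (P : Set H) → f x ∈ Subgroup.normalizer (P.map f : Set G) :=
    fun x hx => Subgroup.le_normalizer_map f ⟨x, hx, rfl⟩
  obtain ⟨R, hR, haR, hRN, hRp⟩ := h (P.map f) (hP.map f) (f a) (hN a ha) ⟨k, by rw [← map_pow, hk, map_one]⟩ (by
    rw [← MonoidHom.map_zpowers, ← Subgroup.map_commutator, ← Subgroup.map_commutator, hq, Subgroup.map_bot])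
  refine ⟨R.comap f ⊓ Subgroup.normalizer (P : Set H), fun x hx => ?_, ⟨haR, ha⟩, inf_le_right, ?_⟩
  · have h1 := hR (hN x hx)
    rw [Subgroup.mem_normalizer_iff]
    intro y
    constructor
    · rintro ⟨hy, hy'⟩
      refine ⟨?_, (Subgroup.normalizer (P : Set H)).mul_mem ((Subgroup.normalizer (P : Set H)).mul_mem hx hy') ((Subgroup.normalizer (P : Set H)).inv_mem hx)⟩
      show f (x * y * x⁻¹) ∈ R
      rw [map_mul, map_mul, map_inv]
      exact (Subgroup.mem_normalizer_iff.1 h1 _).1 hy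
    · rintro ⟨hy, hy'⟩
      refine ⟨?_, by simpa [mul_assoc] using (Subgroup.normalizer (P : Set H)).mul_mem ((Subgroup.normalizer (P : Set H)).mul_mem ((Subgroup.normalizer (P : Set H)).inv_mem hx) hy') hx⟩
      show f y ∈ R
      refine (Subgroup.mem_normalizer_iff.1 h1 _).2 ?_
      rw [← map_inv, ← map_mul, ← map_mul]
      exact hy
  · rintro r ⟨hr, -⟩
    obtain ⟨l, hl⟩ := hRp (f r) hr
    refine ⟨l, Subgroup.mem_centralizer_iff.2 fun y hy => hf ?_⟩
    rw [map_mul, map_mul, map_pow]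
    exact Subgroup.mem_centralizer_iff.1 hl (f y) ⟨y, hy, rfl⟩

theorem AllStable.subgroup (h : AllStable p G) (H : Subgroup G) : AllStable p H :=
  h.of_injective H.subtype H.subtype_injective

/-- Stability from pairs of conjugates. -/
theorem quadStable_of_pairs [Finite G] [Fact p.Prime] (P : Subgroup G)
    (h : ∀ a ∈ Subgroup.normalizer (P : Set G), (∃ k : ℕ, a ^ p ^ k = 1) → Quad P a →
      ∀ g ∈ Subgroup.normalizer (P : Set G), ∀ z ∈ Subgroup.closure ({a, g * a * g⁻¹} : Set G),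
        ∃ k : ℕ, z ^ p ^ k ∈ Subgroup.centralizer (P : Set G)) :
    QuadStable p P := by
  intro a ha hap hq
  set N := Subgroup.normalizer (P : Set G) with hN
  set C := (Subgroup.centralizer (P : Set G)).subgroupOf N with hC
  have hmem : QuotientGroup.mk' C ⟨a, ha⟩ ∈ pCore p (N ⧸ C) := by
    refine CfsgLib.BaerSuzuki.mem_pCore _ fun x => ?_
    obtain ⟨g, rfl⟩ := QuotientGroup.mk'_surjective C x
    rintro ⟨y, hy⟩
    rw [← map_inv, ← map_mul, ← map_mul, ← Set.image_pair, ← MonoidHom.map_closure] at hy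
    obtain ⟨z, hz, rfl⟩ := hy
    have hz' := Subgroup.mem_map_of_mem N.subtype hz
    rw [MonoidHom.map_closure, Set.image_pair] at hz'
    obtain ⟨k, hk⟩ := h a ha hap (quad_of_commutator_bot hq) g g.2 z hz'
    refine ⟨k, Subtype.ext ?_⟩
    show QuotientGroup.mk' C z ^ p ^ k = 1
    rw [← map_pow, QuotientGroup.mk'_apply, QuotientGroup.eq_one_iff]
    exact hk
  haveI : (pCore p (N ⧸ C)).Normal := pCore_normal p _
  set R₀ := (pCore p (N ⧸ C)).comap (QuotientGroup.mk' C) with hR₀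
  refine ⟨R₀.map N.subtype, fun x hx => ?_, ⟨⟨a, ha⟩, hmem, rfl⟩, Subgroup.map_subtype_le _, ?_⟩
  · have hmap : R₀.map N.subtype = R₀.map N.subtype := rfl
    haveI : R₀.Normal := inferInstance
    have h1 : (⟨x, hx⟩ : N) ∈ Subgroup.normalizer (R₀ : Set N) := by
      rw [Subgroup.normalizer_eq_top]; exact Subgroup.mem_top _
    exact Subgroup.le_normalizer_map N.subtype ⟨⟨x, hx⟩, h1, rfl⟩
  · rintro _ ⟨r, hr, rfl⟩
    obtain ⟨k, hk⟩ := (CfsgLib.LocalP.isPGroup_pCore : IsPGroup p (pCore p (N ⧸ C))) ⟨_, hr⟩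
    refine ⟨k, ?_⟩
    have h1 : QuotientGroup.mk' C r ^ p ^ k = 1 := congrArg Subtype.val hk
    rw [← map_pow, QuotientGroup.mk'_apply, QuotientGroup.eq_one_iff] at h1
    exact h1

/-- Conjugation in a group with stable `p`-subgroups is a stable action. -/
theorem stableAction_of_allStable [Finite G] (hst : AllStable p G) {Q : Subgroup G} (hQ : IsPGroup p Q) :
    StableAction p Q.normalizerMonoidHom := by
  intro Q' a g ⟨k, hk⟩ haQ hgQ hquad h hh
  have hN : ∀ x : Subgroup.normalizer (Q : Set G), (∀ q ∈ Q', Q.normalizerMonoidHom x q ∈ Q') →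
      (x : G) ∈ Subgroup.normalizer (Q'.map Q.subtype : Set G) := by
    intro x hx
    rw [Subgroup.mem_normalizer_iff_map_conj_eq]
    refine Subgroup.eq_of_le_of_card_ge ?_ (Subgroup.card_map_of_injective (MulAut.conj (x : G)).injective).ge
    rintro _ ⟨_, ⟨q, hq, rfl⟩, rfl⟩
    exact ⟨_, hx q hq, rfl⟩
  have hq : Quad (Q'.map Q.subtype) (a : G) := by
    rintro _ ⟨q, hq, rfl⟩
    have h1 : (a : G) * ((q : G)⁻¹⁻¹ * ((a : G) * (q : G)⁻¹ * (a : G)⁻¹)) * (a : G)⁻¹ =
        (q : G)⁻¹⁻¹ * ((a : G) * (q : G)⁻¹ * (a : G)⁻¹) := congrArg Subtype.val (hquad q⁻¹ (inv_mem hq))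
    rw [inv_inv, mul_inv_eq_iff_eq_mul] at h1
    show Commute (a : G) ((q : G) * a * (q : G)⁻¹ * (a : G)⁻¹)
    have e : (q : G) * a * (q : G)⁻¹ * (a : G)⁻¹ = (q : G) * ((a : G) * (q : G)⁻¹ * (a : G)⁻¹) := by group
    rw [e]
    exact h1
  obtain ⟨R, hR, haR, -, hRp⟩ := hst _ ((hQ.to_subgroup Q').map Q.subtype) a (hN a haQ)
    ⟨k, congrArg Subtype.val hk⟩ (commutator_bot_of_quad hq)
  have hle : Subgroup.closure ({(a : G), (g : G) * a * (g : G)⁻¹} : Set G) ≤ R := by
    rw [Subgroup.closure_le]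
    rintro z (rfl | rfl)
    · exact haR
    · exact (Subgroup.mem_normalizer_iff.1 (hR (hN g hgQ)) _).1 haR
  have hh' := Subgroup.mem_map_of_mem (Subgroup.normalizer (Q : Set G)).subtype hh
  rw [MonoidHom.map_closure, Set.image_pair] at hh'
  obtain ⟨l, hl⟩ := hRp _ (hle hh')
  refine ⟨l, fun q hq => Subtype.ext ?_⟩
  have h1 := Subgroup.mem_centralizer_iff.1 hl (q : G) ⟨q, hq, rfl⟩
  show ((h ^ p ^ l : Subgroup.normalizer (Q : Set G)) : G) * q * ((h ^ p ^ l : Subgroup.normalizer (Q : Set G)) : G)⁻¹ = q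
  rw [SubgroupClass.coe_pow, ← show (q : G) * (h : G) ^ p ^ l = (h : G) ^ p ^ l * q from h1, mul_inv_cancel_right]

/-- Stability passes to quotients by central `p`-subgroups, `p` odd. -/
theorem AllStable.of_central [Finite G] [Fact p.Prime] (hp : p ≠ 2) (hst : AllStable p G) {H : Type u} [Group H]
    [Finite H] (f : G →* H) (hf : Function.Surjective f) (hkp : IsPGroup p f.ker)
    (hkc : f.ker ≤ Subgroup.center G) : AllStable p H := by
  intro P hP
  refine quadStable_of_pairs P fun α hα hαp hq γ hγ z hz => ?_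
  obtain ⟨a₁, ha₁⟩ := hf α
  obtain ⟨g, rfl⟩ := hf γ
  obtain ⟨k, hk⟩ := hαp
  obtain ⟨a, -, hap, hmem⟩ := exists_pElement_mk_eq (p := p) f.ker (a := a₁)
    ⟨k, by rw [MonoidHom.mem_ker, map_pow, ha₁, hk]⟩
  rw [MonoidHom.mem_ker, map_mul, map_inv, inv_mul_eq_one] at hmem
  obtain rfl : f a = α := hmem.symm.trans ha₁
  set Q := P.comap f with hQdef
  have hQ : IsPGroup p Q := hP.comap_of_ker_isPGroup f hkp
  have hNQ : (Subgroup.normalizer (P : Set H)).comap f = Subgroup.normalizer (Q : Set G) :=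
    Subgroup.comap_normalizer_eq_of_surjective P hf
  have haN : a ∈ Subgroup.normalizer (Q : Set G) := hNQ ▸ (hα : a ∈ (Subgroup.normalizer (P : Set H)).comap f)
  have hgN : g ∈ Subgroup.normalizer (Q : Set G) := hNQ ▸ (hγ : g ∈ (Subgroup.normalizer (P : Set H)).comap f)
  set N := Subgroup.normalizer (Q : Set G) with hN
  let a' : N := ⟨a, haN⟩
  let b' : N := ⟨g, hgN⟩ * a' * (⟨g, hgN⟩ : N)⁻¹
  set K := Subgroup.closure ({a', b'} : Set N) with hK
  have hquad : ∀ x : N, Quad P (f x) → ∀ q : Q,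
      (q⁻¹ * Q.normalizerMonoidHom x q)⁻¹ * Q.normalizerMonoidHom x (q⁻¹ * Q.normalizerMonoidHom x q) ∈
        f.ker.subgroupOf Q := by
    intro x hx q
    show f (((q : G)⁻¹ * ((x : G) * q * (x : G)⁻¹))⁻¹ *
      ((x : G) * ((q : G)⁻¹ * ((x : G) * q * (x : G)⁻¹)) * (x : G)⁻¹)) = 1
    have h1 := hx (f (q : G))⁻¹ (inv_mem q.2)
    rw [inv_inv] at h1
    have e : (f (q : G))⁻¹ * (f x * f q * (f x)⁻¹) = (f (q : G))⁻¹ * f x * f q * (f x)⁻¹ := by group
    simp only [map_mul, map_inv]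
    rw [e, h1.eq, mul_inv_cancel_right, inv_mul_cancel]
  have hstK : StableAction p (Q.normalizerMonoidHom.comp K.subtype) := by
    intro Q' x y ⟨l, hl⟩ hxQ hyQ hxq w hw
    have hw' : (w : N) ∈ Subgroup.closure ({(x : N), (y : N) * x * (y : N)⁻¹} : Set N) := by
      have := Subgroup.mem_map_of_mem K.subtype hw
      rwa [MonoidHom.map_closure, Set.image_pair] at this
    exact stableAction_of_allStable hst hQ Q' x y ⟨l, congrArg Subtype.val hl⟩ hxQ hyQ hxq w hw'
  have hgQ : Quad P (f (b' : G)) := by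
    intro v hv
    have hv' : (f g)⁻¹ * v * f g ∈ P := (Subgroup.mem_normalizer_iff''.1 hγ v).1 hv
    have h1 := (hq _ hv').map (MulAut.conj (f g)).toMonoidHom
    show Commute (f (g * a * g⁻¹)) (v * f (g * a * g⁻¹) * v⁻¹ * (f (g * a * g⁻¹))⁻¹)
    rw [map_mul, map_mul, map_inv]
    convert h1 using 1
    · rfl
    · show v * (f g * f a * (f g)⁻¹) * v⁻¹ * (f g * f a * (f g)⁻¹)⁻¹ =
        f g * ((f g)⁻¹ * v * f g * f a * ((f g)⁻¹ * v * f g)⁻¹ * (f a)⁻¹) * (f g)⁻¹
      group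
  have hz' : z ∈ (K.map N.subtype).map f := by
    rw [hK, MonoidHom.map_closure, Set.image_pair, MonoidHom.map_closure, Set.image_pair]
    show z ∈ Subgroup.closure ({f a, f (g * a * g⁻¹)} : Set H)
    rwa [map_mul, map_mul, map_inv]
  obtain ⟨_, ⟨⟨w, hwN⟩, hwK, rfl⟩, rfl⟩ := hz'
  obtain ⟨l, hl⟩ := pActs_of_quadratic_mod hp (Nat.card K + Nat.card Q) K Q rfl hQ
    (Q.normalizerMonoidHom.comp K.subtype) hstK (f.ker.subgroupOf Q)
    (fun q hq => Subgroup.mem_center_iff.2 fun r => Subtype.ext (Subgroup.mem_center_iff.1 (hkc hq) (r : G)))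
    (fun x q hq => Subtype.ext (by
      show ((x : N) : G) * (q : G) * ((x : N) : G)⁻¹ = q
      rw [show ((x : N) : G) * (q : G) = (q : G) * ((x : N) : G) from Subgroup.mem_center_iff.1 (hkc hq) _,
        mul_inv_cancel_right]))
    ⟨a', Subgroup.subset_closure (Set.mem_insert _ _)⟩
    ⟨b', Subgroup.subset_closure (Set.mem_insert_of_mem _ rfl)⟩
    (hap.imp fun k hk => Subtype.ext (Subtype.ext hk))
    (hap.imp fun k hk => Subtype.ext (Subtype.ext (by
      show (g * a * g⁻¹) ^ p ^ k = 1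
      exact conj_pow_eq_one hk g)))
    closure_pair_eq_top (hquad a' hq) (hquad b' hgQ) ⟨⟨w, hwN⟩, hwK⟩
  refine ⟨l, Subgroup.mem_centralizer_iff.2 fun v hv => ?_⟩
  obtain ⟨q, rfl⟩ := hf v
  have h1 : (w ^ p ^ l) * q * (w ^ p ^ l)⁻¹ = q := by
    have h2 := congrArg Subtype.val (MulEquiv.congr_fun hl ⟨q, hv⟩)
    simpa using h2
  show f q * f w ^ p ^ l = f w ^ p ^ l * f q
  rw [← map_pow, ← map_mul, ← map_mul, ← mul_inv_eq_iff_eq_mul.1 h1]

end CfsgLib.Fus.PStab
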