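import Cfsg.Agent.QdSection.Natural

/-!
A faithful irreducible group generated minimally by two quadratic elements has a central element acting
as minus one on some vector (hence fixed-point-freely).
-/

set_option autoImplicit false

open Cfsg
open Matrix
open CfsgLib.QdSection
open CfsgLib.GlaubermanZJ

namespace CfsgLib.Fus.PStab

variable {p : ℕ} [hpf : Fact p.Prime] {X : Type*} [Group X] [Finite X] {a b : X}

set_option maxHeartbeats 1000000 in
theorem exists_braid_pair (hp : p ≠ 2) (hgen : Subgroup.closure ({a, b} : Set X) = ⊤)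
    (hmin : ∀ x : X, Subgroup.closure ({a, x * a * x⁻¹} : Set X) = ⊤ ∨
      IsPGroup p (Subgroup.closure ({a, x * a * x⁻¹} : Set X)))
    {W : Type*} [AddCommGroup W] [Module (ZMod p) W] [Finite W]
    (ρ : X →* Module.End (ZMod p) W) (hρ : Function.Injective ρ)
    (hirr : ∀ U : Submodule (ZMod p) W, (∀ x : X, ∀ v ∈ U, ρ x v ∈ U) → U = ⊥ ∨ U = ⊤)
    (ha : (ρ a - 1) * (ρ a - 1) = 0) (hb : (ρ b - 1) * (ρ b - 1) = 0) (hnp : ¬ IsPGroup p X) :
    ∃ x : X, IsBraid a (x * a * x⁻¹) ∧ Subgroup.closure ({a, x * a * x⁻¹} : Set X) = ⊤ := by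
  classical
  haveI : Nontrivial W := by
    by_contra hns
    rw [not_nontrivial_iff_subsingleton] at hns
    exact hnp fun x => ⟨0, hρ (LinearMap.ext fun w => Subsingleton.elim _ _)⟩
  haveI : CharP (Module.End (ZMod p) W) p :=
    charP_of_injective_algebraMap (algebraMap (ZMod p) _).injective p
  have hpow : ∀ {x : X}, (ρ x - 1) * (ρ x - 1) = 0 → x ^ p = 1 := fun hx =>
    hρ (by rw [map_pow, pow_p_eq_one hx, map_one])
  obtain ⟨n, Φ, hΦ⟩ := exists_extension p W
  set ρb := Φ.toMonoidHom.comp ρ with hρb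
  have hq : ∀ {x : X}, (ρ x - 1) * (ρ x - 1) = 0 → (ρb x - 1) * (ρb x - 1) = 0 := fun {x} hx => by
    show (Φ (ρ x) - 1) * (Φ (ρ x) - 1) = 0
    rw [← map_one Φ, ← map_sub, ← map_mul, hx, map_zero]
  have hnp' : ¬ ∀ x : X, ∃ k, ρb (x ^ p ^ k) = 1 := fun hall => hnp fun x => by
    obtain ⟨k, hk⟩ := hall x
    exact ⟨k, hρ (hΦ (hk.trans (by simp)))⟩
  obtain ⟨φ, hφa, hφb, hφ⟩ := exists_sl2_of_quadratic hgen ρb (hq ha) (hq hb) hnp'
  haveI : Finite φ.range := Finite.of_surjective _ φ.rangeRestrict_surjective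
  have hrange : φ.range = Subgroup.closure {φ a, φ b} := by
    rw [← Set.image_pair, ← MonoidHom.map_closure, hgen, MonoidHom.range_eq_map]
  have hrnp : ¬ IsPGroup p φ.range := fun h => hφ fun x => by
    obtain ⟨k, hk⟩ := h ⟨φ x, x, rfl⟩
    exact ⟨k, by rw [map_pow]; exact congrArg Subtype.val hk⟩
  have hfa1 : φ a ≠ 1 := by
    intro h
    refine hrnp ?_
    rw [hrange, h, Subgroup.closure_insert_one, ← Subgroup.zpowers_eq_closure]
    exact isPGroup_zpowers_of_pow hφb
  -- elements of the kernel commute with `a`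
  have hNa : ∀ n ∈ φ.ker, n * a = a * n := by
    intro n hn
    set M := φ.ker ⊔ Subgroup.zpowers a with hM
    have haM : a ∈ M := Subgroup.mem_sup_right (Subgroup.mem_zpowers a)
    have hnM : n ∈ M := Subgroup.mem_sup_left hn
    have hmem : (⟨a, haM⟩ : M) ∈ Cfsg.pCore p M := by
      refine CfsgLib.BaerSuzuki.mem_pCore _ fun m => ?_
      obtain ⟨k, hk, z, hz, hkz⟩ := Subgroup.mem_sup_of_normal_left.mp m.2
      obtain ⟨i, rfl⟩ := hz
      have hconj : (m : X) * a * (m : X)⁻¹ = k * a * k⁻¹ := by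
        rw [← hkz]
        group
      have hPG : IsPGroup p (Subgroup.closure ({a, k * a * k⁻¹} : Set X)) := by
        refine (hmin k).resolve_left fun htop => hrnp ?_
        have h1 : φ.range = Subgroup.closure {φ a, φ a} := by
          rw [MonoidHom.range_eq_map, ← htop, MonoidHom.map_closure, Set.image_pair, map_mul, map_mul,
            MonoidHom.mem_ker.mp hk, one_mul, map_inv, MonoidHom.mem_ker.mp hk, inv_one, mul_one]
        rw [Set.pair_eq_singleton, ← Subgroup.zpowers_eq_closure] at h1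
        rw [h1]
        exact isPGroup_zpowers_of_pow hφa
      refine (hPG.comap_of_injective M.subtype M.subtype_injective).to_le (mem_closure_pair_le ?_ ?_)
      · exact Subgroup.subset_closure (Set.mem_insert _ _)
      · show (m : X) * a * (m : X)⁻¹ ∈ Subgroup.closure ({a, k * a * k⁻¹} : Set X)
        rw [hconj]
        exact Subgroup.subset_closure (Set.mem_insert_of_mem _ rfl)
    haveI : (Cfsg.pCore p M).Normal := CfsgLib.Constrained.instNormalPCore p
    set P := ((Cfsg.pCore p M).map M.subtype ⊓ φ.ker).subgroupOf φ.ker with hP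
    have hPn : P.Normal := by
      refine ⟨fun y hy g => ?_⟩
      rw [hP, Subgroup.mem_subgroupOf] at hy ⊢
      obtain ⟨⟨y', hy', hyy⟩, -⟩ := hy
      refine ⟨⟨⟨g, Subgroup.mem_sup_left g.2⟩ * y' * ⟨g, Subgroup.mem_sup_left g.2⟩⁻¹,
        Subgroup.Normal.conj_mem inferInstance y' hy' _, ?_⟩, (g * y * g⁻¹).2⟩
      simp [← hyy]
    have hPp : IsPGroup p P :=
      (((CfsgLib.Constrained.isPGroup_pCore (G := M) (p := p)).map M.subtype).to_le inf_le_left).comap_of_injective
        φ.ker.subtype φ.ker.subtype_injective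
    have h1 : (Cfsg.pCore p φ.ker).map φ.ker.subtype ≤ Cfsg.pCore p X :=
      CfsgLib.Constrained.map_pCore_subgroup_le _
    have hcM : (⟨a, haM⟩ : M) * ⟨n, hnM⟩ * ⟨a, haM⟩⁻¹ * ⟨n, hnM⟩⁻¹ ∈ Cfsg.pCore p M := by
      rw [mul_assoc (⟨a, haM⟩ : M) ⟨n, hnM⟩, mul_assoc]
      exact mul_mem hmem (Subgroup.Normal.conj_mem inferInstance _ (inv_mem hmem) _)
    have hc : a * n * a⁻¹ * n⁻¹ ∈ φ.ker :=
      mul_mem ((MonoidHom.normal_ker φ).conj_mem n hn a) (inv_mem hn)
    have hcP : (⟨_, hc⟩ : φ.ker) ∈ P := by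
      rw [hP, Subgroup.mem_subgroupOf]
      exact ⟨⟨_, hcM, rfl⟩, hc⟩
    have h2 : a * n * a⁻¹ * n⁻¹ ∈ Cfsg.pCore p X :=
      h1 ⟨_, CfsgLib.Constrained.le_pCore hPn hPp hcP, rfl⟩
    have h3 := eq_one_of_mem_normal_pgroup ρ hρ hirr CfsgLib.Constrained.isPGroup_pCore h2
    rw [mul_inv_eq_one, mul_inv_eq_iff_eq_mul] at h3
    exact h3.symm
  -- the braid partner
  obtain ⟨_, ⟨x, rfl⟩, hbr⟩ := hasBraid_of_closure hp hrange hφa hφb hfa1 hrnp
  set b' := x * a * x⁻¹ with hb'
  have hφb' : φ b' = φ x * φ a * (φ x)⁻¹ := by rw [hb', map_mul, map_mul, map_inv]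
  rw [← hφb'] at hbr
  have hgen' : Subgroup.closure ({a, b'} : Set X) = ⊤ := by
    refine (hmin x).resolve_right fun hP => hbr.not_isPGroup (hpf.out.odd_of_ne_two hp) ?_
    rw [← Set.image_pair, ← MonoidHom.map_closure]
    exact hP.map φ
  have hker_central : ∀ n ∈ φ.ker, ∀ y : X, n * y = y * n := by
    intro n hn y
    refine mem_of_closure_pair hgen' (P := fun y => n * y = y * n) (by simp)
      (fun y z hy hz => by rw [← mul_assoc, hy, mul_assoc, hz, mul_assoc]) (hNa n hn) ?_ y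
    have h := hNa (x⁻¹ * n * x) (by simpa using (MonoidHom.normal_ker φ).conj_mem n hn x⁻¹)
    rw [hb']
    calc n * (x * a * x⁻¹) = x * ((x⁻¹ * n * x) * a) * x⁻¹ := by group
      _ = x * (a * (x⁻¹ * n * x)) * x⁻¹ := by rw [h]
      _ = x * a * x⁻¹ * n := by group
  have hap := hpow ha
  have hb'q := conj_quadratic ρ ha x
  have hb'p := hpow hb'q
  set c := (a * b' * a) * a * (a * b' * a)⁻¹ with hc
  have hcb : c * b'⁻¹ = 1 := by
    have hm : c * b'⁻¹ ∈ φ.ker := by
      rw [MonoidHom.mem_ker, map_mul, map_inv, hc]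
      simp only [map_mul, map_inv]
      rw [hbr.conj_eq, mul_inv_cancel]
    set m := c * b'⁻¹ with hmdef
    have hmp : m ^ p = 1 := by
      have e : c = m * b' := by rw [hmdef, inv_mul_cancel_right]
      have hcp : c ^ p = 1 := by rw [hc, conj_pow, hap, mul_one, mul_inv_cancel]
      rwa [e, (show Commute m b' from hker_central m hm b').mul_pow, hb'p, mul_one] at hcp
    haveI : (Subgroup.zpowers m).Normal := ⟨fun y hy g => by
      obtain ⟨i, rfl⟩ := hy
      have : Commute (m ^ i) g := Commute.zpow_left (hker_central m hm g) i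
      rw [← this.eq, mul_inv_cancel_right]
      exact ⟨i, rfl⟩⟩
    exact eq_one_of_mem_normal_pgroup ρ hρ hirr (P := Subgroup.zpowers m) (isPGroup_zpowers_of_pow hmp)
      (Subgroup.mem_zpowers m)
  have hbr' : IsBraid a b' := by
    refine ⟨?_, fun h => hbr.2 (by rw [← h])⟩
    rw [mul_inv_eq_one, hc, mul_inv_eq_iff_eq_mul] at hcb
    have h3 : a * b' * a * a = b' * a * b' * a := by
      rw [hcb]
      simp only [mul_assoc]
    exact mul_right_cancel h3
  exact ⟨x, hbr', hgen'⟩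

theorem exists_central_neg (hp : p ≠ 2) (hgen : Subgroup.closure ({a, b} : Set X) = ⊤)
    (hmin : ∀ x : X, Subgroup.closure ({a, x * a * x⁻¹} : Set X) = ⊤ ∨
      IsPGroup p (Subgroup.closure ({a, x * a * x⁻¹} : Set X)))
    {W : Type*} [AddCommGroup W] [Module (ZMod p) W] [Finite W]
    (ρ : X →* Module.End (ZMod p) W) (hρ : Function.Injective ρ)
    (hirr : ∀ U : Submodule (ZMod p) W, (∀ x : X, ∀ v ∈ U, ρ x v ∈ U) → U = ⊥ ∨ U = ⊤)
    (ha : (ρ a - 1) * (ρ a - 1) = 0) (hb : (ρ b - 1) * (ρ b - 1) = 0) (hnp : ¬ IsPGroup p X) :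
    ∃ τ : X, (∀ y, τ * y = y * τ) ∧ ∃ v : W, v ≠ 0 ∧ ρ τ v = -v := by
  obtain ⟨x, hbr, hgen'⟩ := exists_braid_pair hp hgen hmin ρ hρ hirr ha hb hnp
  set c := x * a * x⁻¹ with hc
  have hcq : (ρ c - 1) * (ρ c - 1) = 0 := conj_quadratic ρ ha x
  obtain ⟨hbr1, hne⟩ := hbr
  obtain ⟨w, hw⟩ : ∃ w, w = a * c * a := ⟨_, rfl⟩
  have hwa : w * a = c * w := by
    calc w * a = (a * c * a) * a := by rw [hw]
      _ = (c * a * c) * a := by rw [hbr1]
      _ = c * (a * c * a) := by simp only [mul_assoc]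
      _ = c * w := by rw [hw]
  have hwc : w * c = a * w := by
    calc w * c = (a * c * a) * c := by rw [hw]
      _ = a * (c * a * c) := by simp only [mul_assoc]
      _ = a * (a * c * a) := by rw [hbr1]
      _ = a * w := by rw [hw]
  refine ⟨w * w, mem_of_closure_pair hgen' (P := fun y => w * w * y = y * (w * w)) (by simp)
    (fun y z hy hz => by exact (Commute.mul_right hy hz).eq) ?_ ?_, ?_⟩
  · calc w * w * a = w * (w * a) := mul_assoc _ _ _
      _ = (w * c) * w := by rw [hwa]; exact (mul_assoc _ _ _).symm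
      _ = a * (w * w) := by rw [hwc, mul_assoc]
  · calc w * w * c = w * (w * c) := mul_assoc _ _ _
      _ = (w * a) * w := by rw [hwc]; exact (mul_assoc _ _ _).symm
      _ = c * (w * w) := by rw [hwa, mul_assoc]
  -- a common fixed vector is zero
  have hfix : ∀ t, ρ a t = t → ρ c t = t → t = 0 := by
    intro t h1 h2
    let F : Submodule (ZMod p) W := LinearMap.ker (ρ a - 1) ⊓ LinearMap.ker (ρ c - 1)
    have hF : ∀ v, v ∈ F ↔ ρ a v = v ∧ ρ c v = v := fun v => by simp [F, sub_eq_zero]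
    have hall : ∀ y : X, ∀ v ∈ F, ρ y v = v := fun y v hv =>
      mem_of_closure_pair hgen' (P := fun y => ρ y v = v) (by simp)
        (fun y z hy hz => by rw [map_mul, Module.End.mul_apply, hz, hy]) ((hF v).1 hv).1 ((hF v).1 hv).2 y
    rcases hirr F (fun y v hv => by rw [hall y v hv]; exact hv) with h | h
    · have : t ∈ F := (hF t).2 ⟨h1, h2⟩
      rwa [h, Submodule.mem_bot] at this
    · exfalso
      refine hne (hρ (LinearMap.ext fun v => ?_))
      have := (hF v).1 (h ▸ Submodule.mem_top)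
      rw [this.1, this.2]
  haveI : Nontrivial W := by
    by_contra hns
    rw [not_nontrivial_iff_subsingleton] at hns
    exact hne (hρ (LinearMap.ext fun v => Subsingleton.elim _ _))
  have hAA : ∀ (y : X), (ρ y - 1) * (ρ y - 1) = 0 → ∀ v, ρ y (ρ y v - v) = ρ y v - v := fun y hy v => by
    have := LinearMap.congr_fun hy v
    simp only [Module.End.mul_apply, LinearMap.sub_apply, Module.End.one_apply, LinearMap.zero_apply] at this
    exact sub_eq_zero.1 this
  obtain ⟨v, hv, hv0⟩ : ∃ v, ρ a v = v ∧ v ≠ 0 := by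
    obtain ⟨z, hz⟩ := exists_ne (0 : W)
    by_cases h : ρ a z = z
    · exact ⟨z, h, hz⟩
    · exact ⟨ρ a z - z, hAA a ha z, sub_ne_zero.mpr h⟩
  set u := ρ c v - v with hu
  have hcv : ρ c v = v + u := by rw [hu]; abel
  have hcu : ρ c u = u := hAA c hcq v
  have hwv : ρ w v = v + ρ a u := by
    rw [hw, map_mul, map_mul, Module.End.mul_apply, Module.End.mul_apply, hv, hcv, map_add, hv]
  have ht : v + (ρ a u - u) = 0 := by
    refine hfix _ (by rw [map_add, hv, hAA a ha]) ?_
    have h1 : ρ c (ρ w v) = ρ w v := by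
      rw [← Module.End.mul_apply, ← map_mul, ← hwa, map_mul, Module.End.mul_apply, hv]
    have e : v + ρ a u = (v + (ρ a u - u)) + u := by abel
    rw [hwv, e, map_add, hcu] at h1
    exact add_right_cancel h1
  have hau : ρ a u = u - v := by
    calc ρ a u = (v + (ρ a u - u)) + (u - v) := by abel
      _ = u - v := by rw [ht, zero_add]
  refine ⟨v, hv0, ?_⟩
  have hwu : ρ w u = -v := by
    rw [hw, map_mul, map_mul, Module.End.mul_apply, Module.End.mul_apply, hau, map_sub, hcu, hcv]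
    have e : u - (v + u) = -v := by abel
    rw [e, map_neg, hv]
  rw [map_mul, Module.End.mul_apply, hwv, hau, show v + (u - v) = u by abel, hwu]

end CfsgLib.Fus.PStab
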